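import Cfsg.Agent.Lib.Spor.JFourType.Pentad.Split
import Cfsg.Agent.Lib.Spor.JFourType.FiveFinal
import Cfsg.Agent.Lib.Spor.JFourType.SevenFinal
import Cfsg.Agent.Lib.Grp.QuotientNormalizer

/-!
The symmetric group of degree 5 and the special linear group inside the normaliser of the group of order 2¹⁵, and
the normalisers of Sylow subgroups for 5 and 7 contained in it.
-/

set_option autoImplicit false
set_option maxRecDepth 100000
set_option linter.style.haveILetI false

open Cfsg Cfsg.Agent.Spor.Golay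
open Cfsg.Agent.Spor.Cos.J4Sub (app mm app_mm app_xor app_zero)
open scoped Pointwise

namespace Cfsg.Agent.Spor.JFour

open Mathieu

namespace Pentad

/-- The normaliser of a subgroup of prime order in a group of small order. -/
theorem normalizer_ge {Γ : Type*} [Group Γ] [Finite Γ] {p m : ℕ} [hp : Fact p.Prime] (hc : Nat.card Γ = p * m)
    (hm : ¬ p ∣ m) {H : Subgroup Γ} (hH : Nat.card ↥H = p) {k : ℕ}
    (hk : ∀ n, n ∣ m → n % p = 1 % p → k * n ≤ p * m) :
    k ≤ Nat.card ↥(Subgroup.normalizer (H : Set Γ)) := by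
  have hf : (Nat.card Γ).factorization p = 1 := by
    have hm0 : m ≠ 0 := fun e => hm (e ▸ dvd_zero p)
    rw [hc, Nat.factorization_mul hp.out.ne_zero hm0, Finsupp.add_apply, hp.out.factorization_self,
      Nat.factorization_eq_zero_of_not_dvd hm]
  let Q : Sylow p Γ := Sylow.ofCard H (by rw [hH, hf, pow_one])
  have hQ : (Q : Subgroup Γ) = H := Sylow.coe_ofCard H _
  have h1 : Nat.card (Sylow p Γ) = (Subgroup.normalizer (H : Set Γ)).index := by
    rw [Sylow.card_eq_index_normalizer Q]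
    exact congrArg (fun X : Subgroup Γ => (Subgroup.normalizer (X : Set Γ)).index) hQ
  have h2 : Nat.card (Sylow p Γ) ∣ (H : Subgroup Γ).index := hQ ▸ Q.card_dvd_index
  have h3 : H.index = m := by
    have := H.card_mul_index
    rw [hH, hc] at this
    exact Nat.eq_of_mul_eq_mul_left hp.out.pos this
  have h4 := (Subgroup.normalizer (H : Set Γ)).card_mul_index
  rw [← h1, hc] at h4
  have h5 := hk _ (h3 ▸ h2) (card_sylow_modEq_one p Γ)
  have h6 : 0 < Nat.card (Sylow p Γ) := Nat.card_pos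
  nlinarith

theorem app_id11 {u : ℕ} (hu : u < 2048) : app mI11 u = u := by
  refine xor_induction (p := fun u => app mI11 u = u) (app_zero _) 11 (fun i hi m _ ih => ?_) u hu
  have h : ((List.range 11).all fun j => app mI11 (2 ^ j) == 2 ^ j) = true := by decide +kernel
  rw [app_xor, ih, beq_iff_eq.1 (List.all_eq_true.1 h i (List.mem_range.2 hi))]

end Pentad

namespace Frame

open Pentad

variable {G : Type*} [Group G] {z : G} {P : Subgroup G} {S : Setting z P} {Fr : Frame S} [Finite G] (K : Fr.Kap)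
include K

/-- The projection of a subgroup. -/
theorem Kap.normalizer_image (H : Subgroup ↥Fr.NZ) (hodd : Odd (Nat.card ↥H)) :
    Subgroup.normalizer ((H.map (Phi Fr) : Subgroup _) : Set (Equiv.Perm Fr.Pts × Matrix.SpecialLinearGroup (Fin 3) (ZMod 2))) =
      (Subgroup.normalizer (H : Set ↥Fr.NZ)).map (Phi Fr) := by
  refine le_antisymm (fun x hx => ?_) (Subgroup.le_normalizer_map _)
  obtain ⟨g, rfl⟩ := K.Phi_surjective x
  set N := (Phi Fr).ker with hN
  have hcard : Nat.card ↥N = 2 ^ 15 := by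
    rw [hN, K.Phi_ker, Nat.card_congr (Subgroup.subgroupOfEquivOfLe K.L_le_NZ).toEquiv, K.card_L]
  have hiff : ∀ (y : ↥Fr.NZ), QuotientGroup.mk' N y ∈ H.map (QuotientGroup.mk' N) ↔ Phi Fr y ∈ H.map (Phi Fr) := by
    intro y
    constructor
    · rintro ⟨h, hh, e⟩
      refine ⟨h, hh, ?_⟩
      have := QuotientGroup.eq.1 (e : (QuotientGroup.mk h : ↥Fr.NZ ⧸ N) = QuotientGroup.mk y)
      rw [hN, MonoidHom.mem_ker, map_mul, map_inv, inv_mul_eq_one] at this
      exact this
    · rintro ⟨h, hh, e⟩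
      refine ⟨h, hh, QuotientGroup.eq.2 ?_⟩
      rw [hN, MonoidHom.mem_ker, map_mul, map_inv, inv_mul_eq_one]
      exact e
  have hg : QuotientGroup.mk' N g ∈
      Subgroup.normalizer ((H.map (QuotientGroup.mk' N) : Subgroup (↥Fr.NZ ⧸ N)) : Set (↥Fr.NZ ⧸ N)) := by
    refine Subgroup.mem_normalizer_iff.2 fun q => ?_
    obtain ⟨y, rfl⟩ := QuotientGroup.mk'_surjective N q
    rw [← map_inv, ← map_mul, ← map_mul, hiff, hiff, map_mul, map_mul, map_inv]
    exact Subgroup.mem_normalizer_iff.1 hx _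
  obtain ⟨h, hh, e⟩ := Grp.QuotNorm.exists_normalizer_lift N H
    (by rw [hcard]; exact Nat.Coprime.pow_left 15 hodd.coprime_two_left)
    (Or.inl (by
      haveI : Fact (Nat.Prime 2) := ⟨Nat.prime_two⟩
      haveI := (IsPGroup.of_card hcard).isNilpotent
      exact inferInstance)) hg
  refine ⟨h, hh, ?_⟩
  have := QuotientGroup.eq.1 (e : (QuotientGroup.mk h : ↥Fr.NZ ⧸ N) = QuotientGroup.mk g)
  rw [hN, MonoidHom.mem_ker, map_mul, map_inv, inv_mul_eq_one] at this
  exact this

theorem Kap.card_normalizer_split (H : Subgroup ↥Fr.NZ) (hodd : Odd (Nat.card ↥H)) :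
    Nat.card ↥(Subgroup.normalizer (H : Set ↥Fr.NZ) ⊓ (Phi Fr).ker) *
      Nat.card ↥(Subgroup.normalizer ((H.map (Phi Fr) : Subgroup _) : Set (Equiv.Perm Fr.Pts × Matrix.SpecialLinearGroup (Fin 3) (ZMod 2)))) =
      Nat.card ↥(Subgroup.normalizer (H : Set ↥Fr.NZ)) := by
  rw [K.normalizer_image H hodd]
  set N := Subgroup.normalizer (H : Set ↥Fr.NZ) with hN
  have h := ((Phi Fr).comp N.subtype).ker.card_mul_index
  rw [Subgroup.index_ker, MonoidHom.range_comp, Subgroup.range_subtype] at h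
  have hk : ((Phi Fr).comp N.subtype).ker = ((Phi Fr).ker).subgroupOf N := rfl
  rw [hk, ← Subgroup.inf_subgroupOf_left,
    Nat.card_congr (Subgroup.subgroupOfEquivOfLe inf_le_left).toEquiv] at h
  exact h

omit K in
/-- The order of a normaliser in the whole group. -/
theorem card_normalizer_map (H : Subgroup ↥Fr.NZ) :
    Nat.card ↥(Subgroup.normalizer (H : Set ↥Fr.NZ)) ≤ Nat.card ↥(Subgroup.normalizer ((H.map Fr.NZ.subtype : Subgroup G) : Set G)) ∧
    (Nat.card ↥(Subgroup.normalizer ((H.map Fr.NZ.subtype : Subgroup G) : Set G)) ≤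
        Nat.card ↥(Subgroup.normalizer (H : Set ↥Fr.NZ)) →
      Subgroup.normalizer ((H.map Fr.NZ.subtype : Subgroup G) : Set G) ≤ Fr.NZ) := by
  have hle : (Subgroup.normalizer (H : Set ↥Fr.NZ)).map Fr.NZ.subtype ≤
      Subgroup.normalizer ((H.map Fr.NZ.subtype : Subgroup G) : Set G) := Subgroup.le_normalizer_map _
  have hc := Subgroup.card_map_of_injective (K := Subgroup.normalizer (H : Set ↥Fr.NZ)) Fr.NZ.subtype_injective
  refine ⟨?_, fun h => ?_⟩
  · rw [← hc]; exact Subgroup.card_le_of_le hle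
  · rw [← Subgroup.eq_of_le_of_card_ge hle (by rw [hc]; exact h)]
    exact Subgroup.map_subtype_le _

theorem Kap.card_pts_perm : Nat.card (Equiv.Perm Fr.Pts) = 120 := by
  rw [Nat.card_perm, (card_others K).2]
  rfl

/-- A Sylow five-subgroup with normaliser in the normaliser. -/
theorem Kap.five [IsSimpleGroup G] (hG : ¬ IsMulCommutative G) :
    ∃ Q : Sylow 5 G, Subgroup.normalizer ((Q : Subgroup G) : Set G) ≤ Fr.NZ := by
  classical
  haveI : Fact (Nat.Prime 5) := ⟨by norm_num⟩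
  have h5 : 5 ∣ Nat.card ↥Fr.CZ := by rw [(card_CA_CZ K).2]; norm_num
  obtain ⟨x, hx⟩ := exists_prime_orderOf_dvd_card' 5 h5
  set y : ↥Fr.NZ := Subgroup.inclusion CZ_le_NZ x with hy
  have hy5 : orderOf y = 5 := by rw [hy, orderOf_injective _ (Subgroup.inclusion_injective CZ_le_NZ), hx]
  set H := Subgroup.zpowers y with hH
  have hHc : Nat.card ↥H = 5 := by rw [hH, Nat.card_zpowers, hy5]
  have hodd : Odd (Nat.card ↥H) := by rw [hHc]; decide
  have hyC : (y : G) ∈ Fr.CZ := x.2
  -- the image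
  have hne : perm5 Fr y ≠ 1 := fun h => by
    have hL := K.perm5_eq_one.1 ⟨hyC, h⟩
    have hd : orderOf y ∣ 2 ^ 15 := by
      rw [← K.card_L, ← Subgroup.orderOf_coe]
      exact Subgroup.orderOf_dvd_natCard _ hL
    rw [hy5] at hd
    norm_num at hd
  have himg : Nat.card ↥(H.map (perm5 Fr)) = 5 := by
    rw [hH, MonoidHom.map_zpowers, Nat.card_zpowers]
    refine orderOf_eq_prime ?_ hne
    rw [← map_pow, ← hy5, pow_orderOf_eq_one, map_one]
  have hθ : ∀ n ∈ H, Fr.θ n = 1 := fun n hn => by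
    obtain ⟨i, rfl⟩ := Subgroup.mem_zpowers_iff.1 hn
    rw [map_zpow, Fr.θ_eq_one.2 hyC, one_zpow]
  have hN : 20 * 168 ≤ Nat.card ↥(Subgroup.normalizer ((H.map (Phi Fr) : Subgroup _) : Set (Equiv.Perm Fr.Pts × Matrix.SpecialLinearGroup (Fin 3) (ZMod 2)))) := by
    have hle : (Subgroup.normalizer ((H.map (perm5 Fr) : Subgroup _) : Set _)).prod ⊤ ≤
        Subgroup.normalizer ((H.map (Phi Fr) : Subgroup _) : Set (Equiv.Perm Fr.Pts × Matrix.SpecialLinearGroup (Fin 3) (ZMod 2))) := by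
      rintro ⟨a, b⟩ ⟨ha, -⟩
      refine Subgroup.mem_normalizer_fintype fun q hq => ?_
      obtain ⟨n, hn, rfl⟩ := hq
      obtain ⟨m, hm, e⟩ := (Subgroup.mem_normalizer_iff.1 ha _).1 ⟨n, hn, rfl⟩
      refine ⟨m, hm, Prod.ext ?_ ?_⟩
      · exact e
      · show Fr.θ m = b * Fr.θ n * b⁻¹
        rw [hθ m hm, hθ n hn, mul_one, mul_inv_cancel]
    refine le_trans ?_ (Subgroup.card_le_of_le hle)
    rw [Nat.card_congr (Subgroup.prodEquiv _ _).toEquiv, Nat.card_prod, Subgroup.card_top, K.card_SL3]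
    refine Nat.mul_le_mul_right _ (normalizer_ge (p := 5) (m := 24) K.card_pts_perm (by norm_num) himg ?_)
    intro n hn hn'
    have hn24 := Nat.le_of_dvd (by norm_num) hn
    interval_cases n <;> omega
  have hker : 8 ≤ Nat.card ↥(Subgroup.normalizer (H : Set ↥Fr.NZ) ⊓ (Phi Fr).ker) := by
    rw [← Fr.card_Zs, ← Nat.card_congr (Subgroup.subgroupOfEquivOfLe (K.Zs_le_L.trans K.L_le_NZ)).toEquiv]
    refine Subgroup.card_le_of_le fun n hn => ⟨?_, by rw [K.Phi_ker]; exact K.Zs_le_L hn⟩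
    refine Subgroup.centralizer_le_normalizer _ (Subgroup.mem_centralizer_iff.2 fun q hq => ?_)
    obtain ⟨i, rfl⟩ := Subgroup.mem_zpowers_iff.1 hq
    have hc : Commute (n : G) (y : G) := Subgroup.mem_centralizer_iff.1 hyC _ hn
    exact Subtype.ext (by simpa using (hc.zpow_right i).eq.symm)
  obtain ⟨h1, h2⟩ := card_normalizer_map (Fr := Fr) H
  set Q := H.map Fr.NZ.subtype with hQ
  have hQc : Nat.card ↥Q = 5 := by rw [hQ, Subgroup.card_map_of_injective Fr.NZ.subtype_injective, hHc]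
  have hQz : Q ≤ Subgroup.centralizer ({z} : Set G) := by
    rw [hQ, hH, MonoidHom.map_zpowers, Subgroup.zpowers_le]
    exact Fr.CZ_le hyC
  obtain ⟨h25, -, -, hNQ⟩ := Fr.five_local hG
    (fun v hv hT => Fr.centralizer_le_normalizer (Fr.duadic hG) (fun w hw => Fr.inO_iff hG hw) hv hT) hQc hQz
  have hf : (Nat.card G).factorization 5 = 1 := by
    have hd : 5 ∣ Nat.card G := hQc ▸ Q.card_subgroup_dvd_card
    have h1 := (Nat.Prime.pow_dvd_iff_le_factorization (k := 1) (by norm_num : Nat.Prime 5) Nat.card_pos.ne').1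
      (by simpa using hd)
    have h2 : ¬ 2 ≤ (Nat.card G).factorization 5 := fun h => h25
      (by simpa using (Nat.Prime.pow_dvd_iff_le_factorization (k := 2) (by norm_num : Nat.Prime 5) Nat.card_pos.ne').2 h)
    omega
  refine ⟨Sylow.ofCard Q (by rw [hQc, hf, pow_one]), ?_⟩
  rw [Sylow.coe_ofCard]
  refine h2 ?_
  rw [hNQ, ← K.card_normalizer_split H hodd]
  exact le_trans (by norm_num) (Nat.mul_le_mul hker hN)

/-- The element of order seven. -/
noncomputable def Kap.n7 : ↥Fr.NZ :=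
  ⟨K.el σ7, by rw [σ7, K.el_mul]; exact mul_mem (K.el_gen_NZ (by norm_num)) (K.el_gen_NZ (by norm_num))⟩

theorem Kap.n7_spec : orderOf K.n7 = 7 ∧ perm5 Fr K.n7 = 1 ∧
    ∀ l ∈ K.L, (K.n7 : G) * l = l * K.n7 → l = 1 := by
  have hA : Fr.Act (K.el σ7) m7 := by
    rw [σ7, K.el_mul]; exact Fr.act_mul (K.act_gen' (by norm_num)) (K.act_gen' (by norm_num))
  have hpres : ∀ v < 2048, cls (app m7 v) = cls v := fun v hv => by
    rw [m7, app_mm, cls_pres_gen (by decide) ((K.act_gen' (show 0 < 10 by norm_num)).lt v),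
      cls_pres_gen (by decide) hv]
  have v7 := valid_of_inM24 p7_in
  have h77 : σ7 ^ 7 = 1 := Subtype.ext (by
    rw [SubmonoidClass.coe_pow, σ7_coe]
    have e := congrArg permOf Pentad.seven_check.2.1
    rw [permOf_comp v7 (valid_comp v7 (valid_comp v7 (valid_comp v7 (valid_comp v7 (valid_comp v7 v7))))),
      permOf_comp v7 (valid_comp v7 (valid_comp v7 (valid_comp v7 (valid_comp v7 v7)))),
      permOf_comp v7 (valid_comp v7 (valid_comp v7 (valid_comp v7 v7))),
      permOf_comp v7 (valid_comp v7 (valid_comp v7 v7)), permOf_comp v7 (valid_comp v7 v7), permOf_comp v7 v7,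
      permOf_idP] at e
    simp only [pow_succ, pow_zero, one_mul, mul_assoc]
    exact e)
  have hne : σ7 ≠ 1 := fun h => by
    have := Pentad.seven_check.2.2.1
    simp only [bne_iff_ne, ne_eq] at this
    exact this (permOf_eq_one v7 pack_check.2.2 (by rw [← σ7_coe, h]; rfl))
  have hord : orderOf K.n7 = 7 := by
    haveI : Fact (Nat.Prime 7) := ⟨by norm_num⟩
    refine orderOf_eq_prime (Subtype.ext ?_) fun h => hne ?_
    · show (K.el σ7) ^ 7 = 1
      have hp : ∀ k : ℕ, K.el σ7 ^ k = K.el (σ7 ^ k) := fun k => by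
        induction k with
        | zero => rw [pow_zero, pow_zero, K.el_one]
        | succ k ih => rw [pow_succ, pow_succ, K.el_mul, ih]
      rw [hp, h77, K.el_one]
    · have h0 : Fr.Av 0 * K.el σ7 = Fr.Av 0 * K.el 1 := by
        rw [Fr.Av_zero, one_mul, one_mul, K.el_one]; exact congrArg Subtype.val h
      exact (K.form_inj (by norm_num) (by norm_num) h0).2
  refine ⟨hord, ?_, ?_⟩
  · have hst : K.n7 ∈ stab5 Fr := Subgroup.mem_subgroupOf.2 (K.el_mem σ7)
    set r := restr Fr ⟨K.n7, hst⟩ with hr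
    have hc : ∀ v (hv : v < 2048), r * apo Fr v hv = apo Fr v hv * r := fun v hv =>
      comm_stab K (m := ⟨K.n7, hst⟩) (n := ⟨_, Av_stab hv⟩) ⟨m7, hA, hpres⟩ ⟨mI11,
        ⟨Fr.act_one.lt, fun u hu => by
          show Fr.Av v * Fr.Av u * (Fr.Av v)⁻¹ = _
          rw [app_id11 hu, Fr.A_comm _ (Fr.Av_mem hv) _ (Fr.Av_mem hu), mul_inv_cancel_right]⟩,
        fun u hu => by rw [app_id11 hu]⟩
    obtain ⟨hcm, hp, hq, -⟩ := four_facts K
    have hr2 : r * r = 1 := by
      rcases comm_four K (hc 128 (by norm_num)) (hc 1024 (by norm_num)) with e | e | e | e <;> rw [e]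
      · rw [one_mul]
      · exact hp
      · exact hq
      · rw [show ∀ a b : Equiv.Perm Fr.Others, a * b * (a * b) = a * (b * a) * b from fun a b => by group,
          ← hcm 128 1024 (by norm_num) (by norm_num), ← mul_assoc, hp, one_mul, hq]
    have hr7 : r ^ 7 = 1 := by
      rw [hr, ← map_pow, show (⟨K.n7, hst⟩ : ↥(stab5 Fr)) ^ 7 = 1 from Subtype.ext (by
        rw [SubmonoidClass.coe_pow, OneMemClass.coe_one, ← hord, pow_orderOf_eq_one]), map_one]
    have hr1 : r = 1 := by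
      rwa [pow_succ, show r ^ 6 = (r * r) ^ 3 by rw [← pow_two, ← pow_mul], hr2, one_pow, one_mul] at hr7
    exact (restr_inj (hr1.trans (map_one _).symm)).trans (map_one _)
  · rintro _ ⟨v, hv, hc, k, hk, rfl⟩ h
    change K.el σ7 * (Fr.Av v * K.el (ks k)) = Fr.Av v * K.el (ks k) * K.el σ7 at h
    rw [show K.el σ7 * (Fr.Av v * K.el (ks k)) = K.el σ7 * Fr.Av v * (K.el σ7)⁻¹ * (K.el σ7 * K.el (ks k)) by group,
      hA.eq v hv, mul_assoc (Fr.Av v), ← K.el_mul, ← K.el_mul] at h
    obtain ⟨hv', hσ⟩ := K.form_inj (hA.lt v) hv h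
    obtain rfl := σ7_ks hk hσ
    have h' := List.all_eq_true.1 Pentad.seven_check.2.2.2.2 v (List.mem_range.2 hv)
    simp only [Bool.or_eq_true, bne_iff_ne, ne_eq, hc, not_true_eq_false, false_or, beq_iff_eq, hv', or_false] at h'
    rw [h', ks_zero, K.el_one, Fr.Av_zero, one_mul]

/-- A Sylow seven-subgroup with normaliser in the normaliser, and the symmetric group of degree 5. -/
theorem Kap.seven [IsSimpleGroup G] (hG : ¬ IsMulCommutative G) :
    (∃ Q : Sylow 7 G, Subgroup.normalizer ((Q : Subgroup G) : Set G) ≤ Fr.NZ) ∧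
      ∃ K1 : Subgroup G, K1 ≤ Fr.NZ ∧ Nonempty (↥K1 ≃* Equiv.Perm (Fin 5)) := by
  classical
  haveI : Fact (Nat.Prime 7) := ⟨by norm_num⟩
  obtain ⟨hy7, hperm, hfix⟩ := K.n7_spec
  set y := K.n7 with hy
  set H := Subgroup.zpowers y with hH
  have hHc : Nat.card ↥H = 7 := by rw [hH, Nat.card_zpowers, hy7]
  have hodd : Odd (Nat.card ↥H) := by rw [hHc]; decide
  have hp : ∀ n ∈ H, perm5 Fr n = 1 := fun n hn => by
    obtain ⟨i, rfl⟩ := Subgroup.mem_zpowers_iff.1 hn
    rw [map_zpow, hperm, one_zpow]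
  have hθne : Fr.θ y ≠ 1 := fun h => by
    have hL := K.perm5_eq_one.1 ⟨Fr.θ_eq_one.1 h, hperm⟩
    have h1 := hfix _ hL rfl
    have : y = 1 := Subtype.ext h1
    rw [this, orderOf_one] at hy7
    omega
  have himg : Nat.card ↥(H.map Fr.θ) = 7 := by
    rw [hH, MonoidHom.map_zpowers, Nat.card_zpowers]
    refine orderOf_eq_prime ?_ hθne
    rw [← map_pow, ← hy7, pow_orderOf_eq_one, map_one]
  have hN : 120 * 21 ≤ Nat.card ↥(Subgroup.normalizer ((H.map (Phi Fr) : Subgroup _) : Set (Equiv.Perm Fr.Pts × Matrix.SpecialLinearGroup (Fin 3) (ZMod 2)))) := by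
    have hle : (⊤ : Subgroup (Equiv.Perm Fr.Pts)).prod (Subgroup.normalizer ((H.map Fr.θ : Subgroup _) : Set _)) ≤
        Subgroup.normalizer ((H.map (Phi Fr) : Subgroup _) : Set (Equiv.Perm Fr.Pts × Matrix.SpecialLinearGroup (Fin 3) (ZMod 2))) := by
      rintro ⟨a, b⟩ ⟨-, hb⟩
      refine Subgroup.mem_normalizer_fintype fun q hq => ?_
      obtain ⟨n, hn, rfl⟩ := hq
      obtain ⟨m, hm, e⟩ := (Subgroup.mem_normalizer_iff.1 hb _).1 ⟨n, hn, rfl⟩
      refine ⟨m, hm, Prod.ext ?_ ?_⟩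
      · show perm5 Fr m = a * perm5 Fr n * a⁻¹
        rw [hp m hm, hp n hn, mul_one, mul_inv_cancel]
      · exact e
    refine le_trans ?_ (Subgroup.card_le_of_le hle)
    rw [Nat.card_congr (Subgroup.prodEquiv _ _).toEquiv, Nat.card_prod, Subgroup.card_top, K.card_pts_perm]
    refine Nat.mul_le_mul_left _ (normalizer_ge (p := 7) (m := 24) K.card_SL3 (by norm_num) himg ?_)
    intro n hn hn'
    have hn24 := Nat.le_of_dvd (by norm_num) hn
    interval_cases n <;> omega
  constructor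
  · obtain ⟨h1, h2⟩ := card_normalizer_map (Fr := Fr) H
    set Q := H.map Fr.NZ.subtype with hQ
    have hQc : Nat.card ↥Q = 7 := by rw [hQ, Subgroup.card_map_of_injective Fr.NZ.subtype_injective, hHc]
    -- a conjugate subgroup of order seven commuting with the involution
    obtain ⟨b⟩ := Fr.F.exists_sevenH
    have hs : orderOf b.s = 7 := orderOf_eq_prime b.s_pow b.s_ne
    obtain ⟨h49, -, -, hcard⟩ := Fr.seven_local hG
      (Fr.centralizer_le_normalizer (Fr.duadic hG) (fun w hw => Fr.inO_iff hG hw) (by norm_num) (by decide +kernel))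
      (T := Subgroup.zpowers b.s) (by rw [Nat.card_zpowers, hs])
      (by rw [Subgroup.zpowers_le]; exact Subgroup.mem_centralizer_singleton_iff.2 b.s_z)
    have hf : (Nat.card G).factorization 7 = 1 := by
      have hd : 7 ∣ Nat.card G := hQc ▸ Q.card_subgroup_dvd_card
      have h1 := (Nat.Prime.pow_dvd_iff_le_factorization (k := 1) (by norm_num : Nat.Prime 7) Nat.card_pos.ne').1
        (by simpa using hd)
      have h2 : ¬ 2 ≤ (Nat.card G).factorization 7 := fun h => h49
        (by simpa using (Nat.Prime.pow_dvd_iff_le_factorization (k := 2) (by norm_num : Nat.Prime 7) Nat.card_pos.ne').2 h)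
      omega
    let SQ : Sylow 7 G := Sylow.ofCard Q (by rw [hQc, hf, pow_one])
    let ST : Sylow 7 G := Sylow.ofCard (Subgroup.zpowers b.s) (by rw [Nat.card_zpowers, hs, hf, pow_one])
    have hNQ : Nat.card ↥(Subgroup.normalizer (Q : Set G)) = 2520 := by
      have e : (Subgroup.normalizer (Q : Set G)).index = (Subgroup.normalizer ((Subgroup.zpowers b.s) : Set G)).index := by
        rw [← Sylow.coe_ofCard Q (p := 7) (by rw [hQc, hf, pow_one]),
          ← Sylow.coe_ofCard (Subgroup.zpowers b.s) (p := 7) (by rw [Nat.card_zpowers, hs, hf, pow_one])]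
        exact (Sylow.card_eq_index_normalizer SQ).symm.trans (Sylow.card_eq_index_normalizer ST)
      have ha := (Subgroup.normalizer (Q : Set G)).card_mul_index
      have hb := (Subgroup.normalizer ((Subgroup.zpowers b.s) : Set G)).card_mul_index
      rw [e] at ha
      rw [hcard] at hb
      exact Nat.eq_of_mul_eq_mul_right (Nat.pos_of_ne_zero Subgroup.index_ne_zero_of_finite)
        (ha.trans (hb.symm.trans (by norm_num)))
    refine ⟨SQ, ?_⟩
    rw [Sylow.coe_ofCard]
    refine h2 ?_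
    rw [hNQ, ← K.card_normalizer_split H hodd]
    exact le_trans (by norm_num) (Nat.mul_le_mul (show 1 ≤ _ from Nat.card_pos) hN)
  · -- the centraliser of the element meets each coset of the kernel over the first factor
    set C := Subgroup.centralizer ({y} : Set ↥Fr.NZ) with hC
    have hlift : ∀ a : Equiv.Perm Fr.Pts, ∃ n ∈ C, Phi Fr n = (a, 1) := by
      intro a
      have hin : ((a, 1) : Equiv.Perm Fr.Pts × Matrix.SpecialLinearGroup (Fin 3) (ZMod 2)) ∈
          Subgroup.normalizer ((H.map (Phi Fr) : Subgroup _) : Set (Equiv.Perm Fr.Pts × Matrix.SpecialLinearGroup (Fin 3) (ZMod 2))) := by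
        refine Subgroup.mem_normalizer_fintype fun q hq => ?_
        obtain ⟨n, hn, rfl⟩ := hq
        refine ⟨n, hn, Prod.ext ?_ ?_⟩
        · show perm5 Fr n = a * perm5 Fr n * a⁻¹
          rw [hp n hn, mul_one, mul_inv_cancel]
        · show Fr.θ n = 1 * Fr.θ n * 1⁻¹
          rw [one_mul, inv_one, mul_one]
      rw [K.normalizer_image H hodd] at hin
      obtain ⟨n, hn, e⟩ := hin
      refine ⟨n, Subgroup.mem_centralizer_singleton_iff.2 ?_, e⟩
      have hm : n * y * n⁻¹ ∈ H := (Subgroup.mem_normalizer_iff.1 hn y).1 (Subgroup.mem_zpowers y)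
      have hker : n * y * n⁻¹ * y⁻¹ ∈ (Phi Fr).ker := by
        rw [MonoidHom.mem_ker, map_mul, map_mul, map_mul, map_inv, map_inv, e]
        refine Prod.ext ?_ ?_
        · show a * perm5 Fr y * a⁻¹ * (perm5 Fr y)⁻¹ = 1
          rw [hperm, mul_one, mul_inv_cancel, inv_one, mul_one]
        · show (1 : Matrix.SpecialLinearGroup (Fin 3) (ZMod 2)) * Fr.θ y * 1⁻¹ * (Fr.θ y)⁻¹ = 1
          rw [one_mul, inv_one, mul_one, mul_inv_cancel]
      rw [K.Phi_ker, Subgroup.mem_subgroupOf] at hker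
      have hH' : n * y * n⁻¹ * y⁻¹ ∈ H := mul_mem hm (inv_mem (Subgroup.mem_zpowers y))
      obtain ⟨i, hi⟩ := Subgroup.mem_zpowers_iff.1 hH'
      have h1 := hfix _ hker (by
        show ((y * (n * y * n⁻¹ * y⁻¹) : ↥Fr.NZ) : G) = ((n * y * n⁻¹ * y⁻¹ * y : ↥Fr.NZ) : G)
        rw [← hi, ← zpow_one_add, ← zpow_add_one, add_comm])
      have h2 : n * y * n⁻¹ * y⁻¹ = 1 := Subtype.ext h1
      exact mul_inv_eq_iff_eq_mul.1 (mul_inv_eq_one.1 h2)
    set C1 := C ⊓ (Fr.θ).ker with hC1
    set f := (perm5 Fr).comp C1.subtype with hf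
    have hfinj : Function.Injective f := by
      rw [← MonoidHom.ker_eq_bot_iff, Subgroup.eq_bot_iff_forall]
      intro n hn
      have hn' : perm5 Fr n.1 = 1 := hn
      obtain ⟨hnC, hnθ⟩ := Subgroup.mem_inf.1 n.2
      have hL := K.perm5_eq_one.1 ⟨Fr.θ_eq_one.1 hnθ, hn'⟩
      refine Subtype.ext (Subtype.ext (hfix _ hL ?_))
      exact congrArg Subtype.val (Subgroup.mem_centralizer_singleton_iff.1 hnC).symm
    have hfsurj : Function.Surjective f := fun a => by
      obtain ⟨n, hn, e⟩ := hlift a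
      exact ⟨⟨n, hn, MonoidHom.mem_ker.2 (congrArg Prod.snd e)⟩, congrArg Prod.fst e⟩
    refine ⟨C1.map Fr.NZ.subtype, Subgroup.map_subtype_le _, ⟨?_⟩⟩
    exact ((C1.equivMapOfInjective _ Fr.NZ.subtype_injective).symm.trans
      (MulEquiv.ofBijective f ⟨hfinj, hfsurj⟩)).trans (Finite.equivFinOfCardEq (card_others K).2).permCongrHom

/-- The special linear group. -/
theorem Kap.linear : ∃ K2 : Subgroup G, K2 ≤ Fr.NZ ∧
    Nonempty (↥K2 ≃* Matrix.SpecialLinearGroup (Fin 3) (ZMod 2)) := by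
  have hinj : Function.Injective K.emb := fun a b e => K.θ_emb_bijective.1 (congrArg Fr.θ e)
  exact ⟨(⊤ : Subgroup ↥sub168).map (Fr.NZ.subtype.comp K.emb), by
    rintro _ ⟨σ, -, rfl⟩
    exact (K.emb σ).2, ⟨(((⊤ : Subgroup ↥sub168).equivMapOfInjective (Fr.NZ.subtype.comp K.emb)
      (Fr.NZ.subtype_injective.comp hinj)).symm.trans Subgroup.topEquiv).trans
      (MulEquiv.ofBijective _ K.θ_emb_bijective)⟩⟩

end Frame

end Cfsg.Agent.Spor.JFour
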