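import Cfsg.Agent.Lib.Spor.JFourType.Pentad.Data
import Cfsg.Agent.Lib.Spor.JFourType.OrderT.Complement

/-!
The centralised group of order 8 of the two-local subgroup of a pentad: a bound for its centraliser and an element
of the centraliser outside the normaliser of the elementary abelian group of order 2¹¹.
-/

set_option autoImplicit false
set_option maxRecDepth 100000
set_option linter.style.haveILetI false

open Cfsg Cfsg.Agent.Spor.Golay
open Cfsg.Agent.Spor.Cos.J4Sub (app mm app_mm app_xor app_zero)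
open scoped Pointwise

namespace Cfsg.Agent.Spor.JFour.Frame

open Pentad Mathieu

variable {G : Type*} [Group G] {z : G} {P : Subgroup G} {S : Setting z P} (Fr : Frame S) [Finite G]

theorem zl_xor {u v : ℕ} (hu : u ∈ zl) (hv : v ∈ zl) : u ^^^ v ∈ zl :=
  List.contains_iff_mem.1 (List.all_eq_true.1 (List.all_eq_true.1 Pentad.z_check.2.2.2.1 u hu) v hv)

theorem zl_lt {v : ℕ} (hv : v ∈ zl) : v < 128 ∧ zl.getD (v % 8) 0 = v := by
  have h := List.all_eq_true.1 Pentad.z_check.2.2.2.2.1 v hv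
  simp only [Bool.and_eq_true, decide_eq_true_eq, beq_iff_eq] at h
  exact h

theorem zl_lt' {v : ℕ} (hv : v ∈ zl) : v < 2048 := (zl_lt hv).1.trans (by norm_num)

/-- The group of order 8. -/
def Zs : Subgroup G where
  carrier := {g | ∃ v ∈ zl, Fr.Av v = g}
  one_mem' := ⟨0, by decide, Fr.Av_zero⟩
  mul_mem' := by
    rintro _ _ ⟨u, hu, rfl⟩ ⟨v, hv, rfl⟩
    exact ⟨u ^^^ v, zl_xor hu hv, (Fr.Av_mul (zl_lt' hu) (zl_lt' hv)).symm⟩
  inv_mem' := by
    rintro _ ⟨u, hu, rfl⟩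
    exact ⟨u, hu, eq_inv_of_mul_eq_one_left (by rw [Fr.Av_mul (zl_lt' hu) (zl_lt' hu), Nat.xor_self, Fr.Av_zero])⟩

theorem mem_Zs {g : G} : g ∈ Fr.Zs ↔ ∃ v ∈ zl, Fr.Av v = g := Iff.rfl

theorem Zs_le_A : Fr.Zs ≤ Fr.A := by
  rintro _ ⟨v, hv, rfl⟩
  exact Fr.Av_mem (zl_lt' hv)

theorem card_Zs : Nat.card ↥Fr.Zs = 8 := by
  rw [← Nat.card_fin 8]
  have hmem : ∀ b < 8, zl.getD b 0 ∈ zl := by decide
  refine (Nat.card_eq_of_bijective (fun b : Fin 8 => (⟨Fr.Av (zl.getD b 0), _, hmem b b.2, rfl⟩ : ↥Fr.Zs))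
    ⟨fun a b e => ?_, ?_⟩).symm
  · have h := Fr.Av_inj (zl_lt' (hmem a a.2)) (zl_lt' (hmem b b.2)) (congrArg Subtype.val e)
    have ha := List.all_eq_true.1 Pentad.z_check.2.2.2.2.2 a (List.mem_range.2 a.2)
    have hb := List.all_eq_true.1 Pentad.z_check.2.2.2.2.2 b (List.mem_range.2 b.2)
    simp only [beq_iff_eq] at ha hb
    exact Fin.ext (by rw [← ha, ← hb, h])
  · rintro ⟨_, v, hv, rfl⟩
    exact ⟨⟨v % 8, Nat.mod_lt _ (by norm_num)⟩, Subtype.ext (congrArg Fr.Av (zl_lt hv).2)⟩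

/-- Its centraliser. -/
def CZ : Subgroup G := Subgroup.centralizer (Fr.Zs : Set G)

theorem mem_CZ {g : G} : g ∈ Fr.CZ ↔ g * z = z * g ∧ g * Fr.F.lh 17 = Fr.F.lh 17 * g ∧
    g * Fr.F.lh 34 = Fr.F.lh 34 * g := by
  rw [CZ, Subgroup.mem_centralizer_iff, show Fr.F.lh 17 = Fr.Av 34 from (Fr.Av_low (n := 17) (by norm_num)).symm,
    show Fr.F.lh 34 = Fr.Av 68 from (Fr.Av_low (n := 34) (by norm_num)).symm]
  constructor
  · intro h
    refine ⟨?_, (h _ ⟨34, by decide, rfl⟩).symm, (h _ ⟨68, by decide, rfl⟩).symm⟩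
    have := h _ ⟨1, by decide, rfl⟩
    rw [Fr.Av_one] at this
    exact this.symm
  · rintro ⟨h1, h2, h3⟩ _ ⟨v, hv, rfl⟩
    rw [← Fr.Av_one] at h1
    have key : ∀ u w, u < 2048 → w < 2048 → Commute g (Fr.Av u) → Commute g (Fr.Av w) →
        Commute g (Fr.Av (u ^^^ w)) := fun u w hu hw a b => Fr.Av_mul hu hw ▸ a.mul_right b
    have c1 : Commute g (Fr.Av 1) := h1
    have c2 : Commute g (Fr.Av 34) := h2
    have c3 : Commute g (Fr.Av 68) := h3
    refine (show Commute g (Fr.Av v) from ?_).eq.symm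
    simp only [zl, List.mem_cons, List.not_mem_nil, or_false] at hv
    rcases hv with rfl | rfl | rfl | rfl | rfl | rfl | rfl | rfl
    · rw [Fr.Av_zero]; exact Commute.one_right g
    · exact c1
    · exact c2
    · exact key 1 34 (by norm_num) (by norm_num) c1 c2
    · exact c3
    · exact key 1 68 (by norm_num) (by norm_num) c1 c3
    · exact key 34 68 (by norm_num) (by norm_num) c2 c3
    · exact key 1 102 (by norm_num) (by norm_num) c1 (key 34 68 (by norm_num) (by norm_num) c2 c3)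

theorem CZ_le : Fr.CZ ≤ Subgroup.centralizer ({z} : Set G) := fun _ hg =>
  Subgroup.mem_centralizer_singleton_iff.2 (Fr.mem_CZ.1 hg).1

/-- The orbit of the pair of vectors. -/
theorem exists_orb : ∀ i < 1386, ∃ (h : G) (M : List ℕ), Fr.F.toCoord.Rep h M ∧
    app M 17 = (orbE i).1 ∧ app M 34 = (orbE i).2.1 := by
  suffices H : ∀ d, ∀ i < 1386, (orbE i).2.2.2.2 = d → ∃ (h : G) (M : List ℕ), Fr.F.toCoord.Rep h M ∧
      app M 17 = (orbE i).1 ∧ app M 34 = (orbE i).2.1 from fun i hi => H _ i hi rfl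
  intro d
  induction d using Nat.strong_induction_on with
  | _ d ih =>
    intro i hi hd
    have h := List.all_eq_true.1 Pentad.orb_check.1 i (List.mem_range.2 hi)
    simp only [Bool.and_eq_true, decide_eq_true_eq, beq_iff_eq] at h
    obtain ⟨hg, h⟩ := h
    by_cases h0 : (orbE i).2.2.2.2 = 0
    · rw [if_pos h0] at h
      simp only [Bool.and_eq_true, beq_iff_eq] at h
      exact ⟨1, mI, Fr.F.toCoord.rep_one, by rw [app_mI (by norm_num), h.1], by rw [app_mI (by norm_num), h.2]⟩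
    · rw [if_neg h0] at h
      simp only [Bool.and_eq_true, decide_eq_true_eq, beq_iff_eq] at h
      obtain ⟨⟨⟨hp, hdep⟩, ha⟩, hb⟩ := h
      obtain ⟨k, N, hN, n1, n2⟩ := ih _ (hd ▸ hdep) _ hp rfl
      obtain ⟨g, hgM⟩ := Fr.mover (M := moveM.getD (orbE i).2.2.2.1 []) (by
        rw [List.getD_eq_getElem _ _ (by simpa [moveM] using hg)]; exact List.getElem_mem _)
      exact ⟨g * k, _, Fr.F.toCoord.rep_mul hgM hN, by rw [app_mm, n1, ha], by rw [app_mm, n2, hb]⟩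

/-- The sign change. -/
noncomputable def flip (e : Bool × Bool) : G :=
  (if e.1 then Fr.F.lh 128 else 1) * (if e.2 then Fr.F.lh 64 else 1)

theorem flip_spec (e : Bool × Bool) : Fr.flip e * z = z * Fr.flip e ∧
    Fr.flip e * Fr.F.lh 17 * (Fr.flip e)⁻¹ = Fr.F.lh 17 * zp z e.1 ∧
    Fr.flip e * Fr.F.lh 34 * (Fr.flip e)⁻¹ = Fr.F.lh 34 * zp z e.2 := by
  have hl := fun n => Fr.F.toCoord.lh_spec n
  obtain ⟨b1, b2, b3, b4, -⟩ := Pentad.sign_check
  have hc : ∀ j n, j < 4096 → n < 4096 → Fr.F.lh j * Fr.F.lh n * (Fr.F.lh j)⁻¹ = Fr.F.lh n * zp z (bv j n) := by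
    intro j n hj hn
    rw [Fr.F.toCoord.core_comm (hl j).1 (hl n).1 hj hn (hl j).2.1 (hl n).2.1]
    have hz : Commute (Fr.F.lh j) (zp z (bv j n)) := by
      cases bv j n
      · simp [zp]
      · simpa [zp] using (show Commute (Fr.F.lh j) z from S.ext.central _ (hl j).1)
    rw [mul_assoc (Fr.F.lh n * Fr.F.lh j), ← hz.inv_left.eq, mul_assoc (Fr.F.lh n), ← mul_assoc (Fr.F.lh j),
      mul_inv_cancel, one_mul]
  have a1 := hc 128 17 (by norm_num) (by norm_num)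
  have a2 := hc 128 34 (by norm_num) (by norm_num)
  have a3 := hc 64 17 (by norm_num) (by norm_num)
  have a4 := hc 64 34 (by norm_num) (by norm_num)
  rw [b1] at a1; rw [b2] at a2; rw [b3] at a3; rw [b4] at a4
  have hz1 : ∀ j, Commute (Fr.F.lh j) z := fun j => S.ext.central _ (hl j).1
  have hzp : ∀ j b, Fr.F.lh j * zp z b * (Fr.F.lh j)⁻¹ = zp z b := fun j b => by
    cases b
    · simp [zp]
    · simp only [zp, if_true]; rw [(hz1 j).eq, mul_inv_cancel_right]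
  have z0 : ∀ {a : G}, a * zp z false = a := fun {a} => by simp [zp]
  obtain ⟨e1, e2⟩ := e
  cases e1 <;> cases e2 <;> refine ⟨?_, ?_, ?_⟩ <;> simp only [flip, if_true, Bool.false_eq_true, if_false, one_mul,
    mul_one, inv_one]
  · rw [z0]
  · rw [z0]
  · exact hz1 64
  · exact a3
  · exact a4
  · exact hz1 128
  · exact a1
  · exact a2
  · exact ((hz1 128).mul_left (hz1 64)).eq
  · rw [show Fr.F.lh 128 * Fr.F.lh 64 * Fr.F.lh 17 * (Fr.F.lh 128 * Fr.F.lh 64)⁻¹ =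
      Fr.F.lh 128 * (Fr.F.lh 64 * Fr.F.lh 17 * (Fr.F.lh 64)⁻¹) * (Fr.F.lh 128)⁻¹ by group, a3, z0, a1]
  · rw [show Fr.F.lh 128 * Fr.F.lh 64 * Fr.F.lh 34 * (Fr.F.lh 128 * Fr.F.lh 64)⁻¹ =
      Fr.F.lh 128 * (Fr.F.lh 64 * Fr.F.lh 34 * (Fr.F.lh 64)⁻¹) * (Fr.F.lh 128)⁻¹ by group, a4,
      show Fr.F.lh 128 * (Fr.F.lh 34 * zp z true) * (Fr.F.lh 128)⁻¹ =
        (Fr.F.lh 128 * Fr.F.lh 34 * (Fr.F.lh 128)⁻¹) * (Fr.F.lh 128 * zp z true * (Fr.F.lh 128)⁻¹) by group,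
      a2, hzp, z0]

/-- The centraliser is small. -/
theorem card_CZ_le : Nat.card ↥Fr.CZ ≤ 2 ^ 18 * 15 := by
  classical
  set H := Subgroup.centralizer ({z} : Set G) with hH
  choose! h M hM e17 e34 using Fr.exists_orb
  have hmem : ∀ u : Fin 1386 × (Bool × Bool), h u.1 * Fr.flip u.2 ∈ H := fun u =>
    mul_mem (Subgroup.mem_centralizer_singleton_iff.2 (hM u.1 u.1.2).hz)
      (Subgroup.mem_centralizer_singleton_iff.2 (Fr.flip_spec u.2).1)
  let f : Fin 1386 × (Bool × Bool) → ↥H ⧸ Fr.CZ.subgroupOf H := fun u => QuotientGroup.mk ⟨_, hmem u⟩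
  have hinj : Function.Injective f := by
    intro u v e
    have h1 := QuotientGroup.eq.1 e
    rw [Subgroup.mem_subgroupOf, Subgroup.coe_mul, Subgroup.coe_inv] at h1
    obtain ⟨-, c17, c34⟩ := Fr.mem_CZ.1 h1
    have key : ∀ n, (h u.1 * Fr.flip u.2)⁻¹ * (h v.1 * Fr.flip v.2) * Fr.F.lh n =
        Fr.F.lh n * ((h u.1 * Fr.flip u.2)⁻¹ * (h v.1 * Fr.flip v.2)) →
        h u.1 * (Fr.flip u.2 * Fr.F.lh n * (Fr.flip u.2)⁻¹) * (h u.1)⁻¹ =
          h v.1 * (Fr.flip v.2 * Fr.F.lh n * (Fr.flip v.2)⁻¹) * (h v.1)⁻¹ := fun n hn => by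
      calc _ = (h u.1 * Fr.flip u.2) * (Fr.F.lh n * ((h u.1 * Fr.flip u.2)⁻¹ * (h v.1 * Fr.flip v.2))) *
            (h v.1 * Fr.flip v.2)⁻¹ := by group
        _ = _ := by rw [← hn]; group
    have k17 := key 17 c17
    have k34 := key 34 c34
    rw [(Fr.flip_spec u.2).2.1, (Fr.flip_spec v.2).2.1] at k17
    rw [(Fr.flip_spec u.2).2.2, (Fr.flip_spec v.2).2.2] at k34
    have rep : ∀ (w : Fin 1386 × (Bool × Bool)) (n : ℕ) (b : Bool), n < 4096 →
        S.rep (h w.1 * (Fr.F.lh n * zp z b) * (h w.1)⁻¹) = Fr.F.Φ (app (M w.1) n) := fun w n b hn => by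
      have hl := Fr.F.toCoord.lh_spec n
      rw [← S.act_rep _ (hM w.1 w.1.2).hz _ (mul_mem hl.1 (S.zp_mem_E b)), S.rep_mul _ hl.1 _ (S.zp_mem_E b), hl.2.1,
        (S.rep_zero _ (S.zp_mem_E b)).2 (by cases b <;> simp [zp]), add_zero, (hM w.1 w.1.2).eq n hn]
    have lt : ∀ w : Fin 1386 × (Bool × Bool), ∀ n, app (M w.1) n < 4096 := fun w n =>
      app_lt_of_ok (hM w.1 w.1.2).ok n
    have r17 := congrArg S.rep k17
    have r34 := congrArg S.rep k34
    rw [rep u 17 _ (by norm_num), rep v 17 _ (by norm_num)] at r17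
    rw [rep u 34 _ (by norm_num), rep v 34 _ (by norm_num)] at r34
    have q17 := Fr.F.toCoord.inj _ (lt u 17) _ (lt v 17) r17
    have q34 := Fr.F.toCoord.inj _ (lt u 34) _ (lt v 34) r34
    rw [e17 _ u.1.2, e17 _ v.1.2] at q17
    rw [e34 _ u.1.2, e34 _ v.1.2] at q34
    have hidx : u.1 = v.1 := by
      have hmono : StrictMono fun i : Fin 1386 => 4096 * (orbE i).1 + (orbE i).2.1 := by
        refine Fin.strictMono_iff_lt_succ.2 fun i => ?_
        exact of_decide_eq_true (List.all_eq_true.1 Pentad.orb_check.2 i (List.mem_range.2 i.2))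
      exact hmono.injective (by simp only [q17, q34])
    rw [← hidx] at k17 k34
    have zpinj : ∀ a b : Bool, zp z a = zp z b → a = b := fun a b e => by
      cases a <;> cases b <;> first | rfl | (simp [zp] at e; first | exact absurd e S.ext.ne | exact absurd e.symm S.ext.ne)
    exact Prod.ext hidx (Prod.ext (zpinj _ _ (mul_left_cancel (mul_left_cancel (mul_right_cancel k17))))
      (zpinj _ _ (mul_left_cancel (mul_left_cancel (mul_right_cancel k34)))))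
  have hc := Nat.card_le_card_of_injective f hinj
  have hmul := (Fr.CZ.subgroupOf H).card_mul_index
  rw [Subgroup.index, S.card_H, Nat.card_congr (Subgroup.subgroupOfEquivOfLe Fr.CZ_le).toEquiv] at hmul
  simp only [Nat.card_eq_fintype_card, Fintype.card_prod, Fintype.card_fin, Fintype.card_bool] at hc
  have hc' : 5544 * Nat.card ↥Fr.CZ ≤ 2 ^ 21 * 10395 := by
    rw [← hmul, mul_comm 5544]
    exact Nat.mul_le_mul_left _ (le_trans (by norm_num) hc)
  norm_num at hc' ⊢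
  omega

/-- An element of the centraliser outside the normaliser. -/
theorem exists_outside : ∃ e ∈ Fr.CZ, e ∉ Subgroup.normalizer (Fr.A : Set G) := by
  set e := Fr.F.q⁻¹ * Fr.F.w * Fr.F.q with he
  have heC : e ∈ CP z P := mul_mem (mul_mem (inv_mem Fr.F.q_mem) Fr.F.w_mem) Fr.F.q_mem
  refine ⟨e, Fr.mem_CZ.2 ⟨S.commz heC, ?_, ?_⟩, fun hn => ?_⟩
  · refine mul_inv_eq_iff_eq_mul.1 ?_
    rw [show e * Fr.F.lh 17 * e⁻¹ = Fr.F.q⁻¹ * (Fr.F.w * (Fr.F.q * Fr.F.lh 17 * Fr.F.q⁻¹) * Fr.F.w⁻¹) * Fr.F.q by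
        rw [he]; group, Fr.F.toCoord.lh_conj Fr.F.q_mem Fr.F.rq (by norm_num),
      Fr.F.toCoord.lh_conj Fr.F.w_mem Fr.F.rw' (app_lt_of_ok Fr.F.rq.ok _),
      Pentad.sign_check.2.2.2.2.1, ← Fr.F.toCoord.lh_conj Fr.F.q_mem Fr.F.rq (by norm_num)]
    group
  · refine mul_inv_eq_iff_eq_mul.1 ?_
    rw [show e * Fr.F.lh 34 * e⁻¹ = Fr.F.q⁻¹ * (Fr.F.w * (Fr.F.q * Fr.F.lh 34 * Fr.F.q⁻¹) * Fr.F.w⁻¹) * Fr.F.q by
        rw [he]; group, Fr.F.toCoord.lh_conj Fr.F.q_mem Fr.F.rq (by norm_num),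
      Fr.F.toCoord.lh_conj Fr.F.w_mem Fr.F.rw' (app_lt_of_ok Fr.F.rq.ok _),
      Pentad.sign_check.2.2.2.2.2.1, ← Fr.F.toCoord.lh_conj Fr.F.q_mem Fr.F.rq (by norm_num)]
    group
  have h := Fr.ψ_smul_hex heC hn
  rw [he, S.ψ_mul _ (mul_mem (inv_mem Fr.F.q_mem) Fr.F.w_mem) _ Fr.F.q_mem, S.ψ_mul _ (inv_mem Fr.F.q_mem) _ Fr.F.w_mem,
    S.ψ_inv Fr.F.q_mem, Fr.F.q_ψ, Fr.F.w_ψ, mul_smul, mul_smul, inv_smul_eq_iff, permOf_smul_pts (pk_valid 8),
    permOf_smul_pts (pk_valid 7)] at h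
  have hne := Pentad.sign_check.2.2.2.2.2.2
  simp only [bne_iff_ne, ne_eq] at hne
  have key : ∀ m m', m < 2 ^ 24 → m' < 2 ^ 24 → pts m = pts m' → m = m' := fun m m' hm hm' e' => by
    refine Nat.eq_of_testBit_eq fun i => ?_
    rcases Nat.lt_or_ge i 24 with hi | hi
    · have h1 := congrArg (fun s => pt i ∈ s) e'
      simp only [mem_pts, idx_pt hi, eq_iff_iff] at h1
      exact Bool.eq_iff_iff.2 h1
    · rw [Nat.testBit_lt_two_pow (hm.trans_le (Nat.pow_le_pow_right (by norm_num) hi)),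
        Nat.testBit_lt_two_pow (hm'.trans_le (Nat.pow_le_pow_right (by norm_num) hi))]
  exact hne (key _ _ (by decide +kernel) (by decide +kernel) h)

end Cfsg.Agent.Spor.JFour.Frame
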