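import Cfsg.Agent.Lib.Spor.JFourType.Pentad.Centre

/-!
Elements of the normaliser of the elementary abelian group of order 2¹¹ normalising the group of order 8, from the
complement.
-/

set_option autoImplicit false
set_option maxRecDepth 100000
set_option linter.style.haveILetI false

open Cfsg Cfsg.Agent.Spor.Golay
open Cfsg.Agent.Spor.Cos.J4Sub (app mm app_mm app_xor app_zero)
open scoped Pointwise

namespace Cfsg.Agent.Spor.JFour

open Mathieu

namespace Pentad

/-- The element of a packed permutation. -/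
noncomputable def σof (Q : ℕ) : ↥Cfsg.M24 :=
  if h : inM24 Q = true then ⟨permOf Q, permOf_mem_M24 h⟩ else 1

theorem σof_coe {Q : ℕ} (h : inM24 Q = true) : (σof Q : Equiv.Perm GolayPt) = permOf Q := by
  rw [σof, dif_pos h]

theorem valid_of_inM24 {Q : ℕ} (h : inM24 Q = true) : valid Q = true := by
  simp only [inM24, Bool.and_eq_true] at h; exact h.1

theorem σof_idP : σof idP = 1 := Subtype.ext (by
  rw [σof_coe (by decide +kernel), permOf_idP]; rfl)

theorem gen_in {i : ℕ} (hi : i < 10) : inM24 (gP.getD i idP) = true ∧ permOK (gM.getD i []) (gP.getD i idP) = true ∧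
    ∀ c ∈ gM.getD i [], c < 2048 := by
  have h := List.all_eq_true.1 gen_check i (List.mem_range.2 hi)
  simp only [Bool.and_eq_true, List.all_eq_true, decide_eq_true_eq] at h
  exact ⟨h.1.1, h.1.2, h.2⟩

theorem k6_in {k : ℕ} (hk : k < 64) : inM24 (k6P.getD k 0) = true ∧ permOK (k6M.getD k []) (k6P.getD k 0) = true ∧
    ∀ c ∈ k6M.getD k [], c < 2048 := by
  have h := List.all_eq_true.1 k6_check.1 k (List.mem_range.2 hk)
  simp only [Bool.and_eq_true, List.all_eq_true, decide_eq_true_eq] at h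
  exact ⟨h.1.1, h.1.2, h.2⟩

/-- The ten generators in the Mathieu group. -/
noncomputable def gσ (i : ℕ) : ↥Cfsg.M24 := σof (gP.getD i idP)

/-- The sums of the six commutators. -/
noncomputable def ks (k : ℕ) : ↥Cfsg.M24 := σof (k6P.getD k 0)

theorem coe_gσ {i : ℕ} (hi : i < 10) : (gσ i : Equiv.Perm GolayPt) = permOf (gP.getD i idP) := σof_coe (gen_in hi).1

theorem coe_ks {k : ℕ} (hk : k < 64) : (ks k : Equiv.Perm GolayPt) = permOf (k6P.getD k 0) := σof_coe (k6_in hk).1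

theorem ks_zero : ks 0 = 1 := by rw [ks, k6_check.2.1, σof_idP]

theorem ks_mul {j k : ℕ} (hj : j < 64) (hk : k < 64) : ks j * ks k = ks (j ^^^ k) := by
  have h := List.all_eq_true.1 (List.all_eq_true.1 k6_mul j (List.mem_range.2 hj)) k (List.mem_range.2 hk)
  simp only [beq_iff_eq] at h
  refine Subtype.ext ?_
  rw [Subgroup.coe_mul, coe_ks hj, coe_ks hk, coe_ks (Nat.xor_lt_two_pow (n := 6) hj hk),
    ← permOf_comp (valid_of_inM24 (k6_in hj).1) (valid_of_inM24 (k6_in hk).1), h]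

theorem ks_two_pow {i : ℕ} (hi : i < 6) : ks (2 ^ i) = gσ (4 + i) := by
  have h := List.all_eq_true.1 k6_check.2.2.2 i (List.mem_range.2 hi)
  simp only [Bool.and_eq_true, beq_iff_eq] at h
  rw [ks, gσ, h.1]

theorem k6M_two_pow {i : ℕ} (hi : i < 6) : k6M.getD (2 ^ i) [] = gM.getD (4 + i) [] := by
  have h := List.all_eq_true.1 k6_check.2.2.2 i (List.mem_range.2 hi)
  simp only [Bool.and_eq_true, beq_iff_eq] at h
  exact h.2

theorem permOf_eq_one {Q : ℕ} (hv : valid Q = true) (hp : pack 24 (Golay.get Q) = Q) (h : permOf Q = 1) : Q = idP := by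
  rw [← hp, idP]
  refine Census.pack_ext 24 _ _ fun i hi => ?_
  have h3 := idx_permOf hv (pt i)
  rw [h, Equiv.Perm.one_apply, idx_pt hi] at h3
  exact h3.symm

theorem pack_check : ((List.range 64).all fun k => pack 24 (Golay.get (k6P.getD k 0)) == k6P.getD k 0) = true ∧
    ((List.range 168).all fun i => pack 24 (Golay.get (k2T.getD i (0, 0, 0, 0)).1) == (k2T.getD i (0, 0, 0, 0)).1) = true ∧
    pack 24 (Golay.get p7) = p7 := by
  decide +kernel

theorem pack_comm_check : ((List.range 64).all fun k =>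
    (pack 24 (Golay.get (comp p7 (k6P.getD k 0))) == comp p7 (k6P.getD k 0)) &&
      (pack 24 (Golay.get (comp (k6P.getD k 0) p7)) == comp (k6P.getD k 0) p7)) = true := by
  decide +kernel

theorem ks_ne {k : ℕ} (hk : k < 64) (h0 : k ≠ 0) : ks k ≠ 1 := fun h => by
  have h' := List.all_eq_true.1 k6_check.2.2.1 k (List.mem_range.2 hk)
  simp only [Bool.or_eq_true, beq_iff_eq, bne_iff_ne, ne_eq, h0, false_or] at h'
  exact h' (permOf_eq_one (valid_of_inM24 (k6_in hk).1)
    (by simpa using List.all_eq_true.1 pack_check.1 k (List.mem_range.2 hk))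
    (by rw [← coe_ks hk, h]; rfl))

theorem ks_inj {j k : ℕ} (hj : j < 64) (hk : k < 64) (h : ks j = ks k) : j = k := by
  by_contra hne
  refine ks_ne (Nat.xor_lt_two_pow (n := 6) hj hk) (fun e => hne (Nat.xor_eq_zero_iff.1 e)) ?_
  rw [← ks_mul hj hk, h, ks_mul hk hk, Nat.xor_self, ks_zero]

theorem comm_spec {i : ℕ} (hi : i < 6) : ∃ t < 2, ∃ k < 64, gσ t * ks k = gσ (4 + i) * ks k * gσ t := by
  have h := List.all_eq_true.1 comm_check i (List.mem_range.2 hi)
  simp only [Bool.and_eq_true, decide_eq_true_eq, beq_iff_eq] at h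
  obtain ⟨⟨ht, hk⟩, e⟩ := h
  refine ⟨_, ht, _, hk, Subtype.ext ?_⟩
  simp only [Subgroup.coe_mul, coe_gσ (show _ < 10 from ht.trans (by norm_num)), coe_gσ (show 4 + i < 10 by omega),
    coe_ks hk]
  rw [← permOf_comp (valid_of_inM24 (gen_in (by omega)).1) (valid_of_inM24 (k6_in hk).1), e,
    permOf_comp (valid_comp (valid_of_inM24 (gen_in (by omega)).1) (valid_of_inM24 (k6_in hk).1))
      (valid_of_inM24 (gen_in (by omega)).1),
    permOf_comp (valid_of_inM24 (gen_in (by omega)).1) (valid_of_inM24 (k6_in hk).1)]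

/-- Words in the generators. -/
noncomputable def wS : List ℕ → ↥Cfsg.M24
  | [] => 1
  | g :: w => gσ g * wS w

theorem cls_xor (u v : ℕ) : cls (u ^^^ v) = cls u ^^^ cls v := app_xor _ u v

theorem cls_lt {v : ℕ} (hv : v < 2048) : cls v < 4 := by
  have h := List.all_eq_true.1 a9_check.1 v (List.mem_range.2 hv)
  simp only [Bool.and_eq_true, decide_eq_true_eq] at h
  exact h.1

theorem a9B_spec {v : ℕ} (hv : v ∈ a9B) : v < 2048 ∧ cls v = 0 := by
  have h := List.all_eq_true.1 cls_check.2.2.2.1 v hv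
  simp only [Bool.and_eq_true, decide_eq_true_eq, beq_iff_eq] at h
  exact h

/-- Induction over the subgroup of index four. -/
theorem a9_induction {p : ℕ → Prop} (h0 : p 0) (hx : ∀ a < 2048, ∀ b < 2048, p a → p b → p (a ^^^ b))
    (hb : ∀ v ∈ a9B, p v) {v : ℕ} (hv : v < 2048) (hc : cls v = 0) : p v := by
  have hlow : ∀ w < 2 ^ 7, p w := xor_induction (p := p) h0 7 fun i hi m hm ih =>
    hx _ ((Nat.pow_lt_pow_right (by norm_num) hi).trans (by norm_num)) _
      (hm.trans ((Nat.pow_lt_pow_right (by norm_num) hi).trans (by norm_num)))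
      (hb _ (by interval_cases i <;> decide)) ih
  have h := List.all_eq_true.1 a9_check.1 v (List.mem_range.2 hv)
  simp only [Bool.and_eq_true, decide_eq_true_eq, Bool.or_eq_true, bne_iff_ne, ne_eq, hc, not_true_eq_false, false_or,
    List.any_eq_true] at h
  obtain ⟨x, hx', hxl⟩ := h.2
  have e : v = (v ^^^ x) ^^^ x := by rw [Nat.xor_assoc, Nat.xor_self, Nat.xor_zero]
  have h289 : p 289 := hb _ (by decide)
  have h845 : p 845 := hb _ (by decide)
  simp only [List.mem_cons, List.not_mem_nil, or_false] at hx'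
  rw [e]
  rcases hx' with rfl | rfl | rfl | rfl
  · exact hx _ (hxl.trans (by norm_num)) _ (by norm_num) (hlow _ hxl) h0
  · exact hx _ (hxl.trans (by norm_num)) _ (by norm_num) (hlow _ hxl) h289
  · exact hx _ (hxl.trans (by norm_num)) _ (by norm_num) (hlow _ hxl) h845
  · exact hx _ (hxl.trans (by norm_num)) _ (by decide) (hlow _ hxl)
      (hx _ (by norm_num) _ (by norm_num) h289 h845)

theorem cls_pres {M : List ℕ} (h : ∀ j < 11, cls (app M (2 ^ j)) = cls (2 ^ j)) {v : ℕ} (hv : v < 2048) :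
    cls (app M v) = cls v := by
  refine xor_induction (p := fun v => cls (app M v) = cls v) (by rw [app_zero]) 11 (fun i hi m _ ih => ?_) v hv
  rw [app_xor, cls_xor, cls_xor, h i hi, ih]

theorem cls_pres_k6 {k : ℕ} (hk : k < 64) {v : ℕ} (hv : v < 2048) : cls (app (k6M.getD k []) v) = cls v :=
  cls_pres (fun j hj => by
    simpa using List.all_eq_true.1 (List.all_eq_true.1 cls_check.2.2.1 k (List.mem_range.2 hk)) j
      (List.mem_range.2 hj)) hv

theorem cls_pres_gen {i : ℕ} (hi : i ∈ [0, 1, 4, 5, 6, 7, 8, 9]) {v : ℕ} (hv : v < 2048) :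
    cls (app (gM.getD i []) v) = cls v :=
  cls_pres (fun j hj => by
    simpa using List.all_eq_true.1 (List.all_eq_true.1 cls_check.2.1 i hi) j (List.mem_range.2 hj)) hv

theorem cls_zero_gen {i : ℕ} (hi : i < 10) {v : ℕ} (hv : v < 2048) (hc : cls v = 0) :
    cls (app (gM.getD i []) v) = 0 := by
  refine a9_induction (p := fun v => cls (app (gM.getD i []) v) = 0) (by rw [app_zero, cls, app_zero])
    (fun a _ b _ ha hb => by rw [app_xor, cls_xor, ha, hb, Nat.xor_self]) (fun w hw => ?_) hv hc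
  simpa using List.all_eq_true.1 (List.all_eq_true.1 cls_check.1 i (List.mem_range.2 hi)) w hw

end Pentad

namespace Frame

open Pentad

variable {G : Type*} [Group G] {z : G} {P : Subgroup G} {S : Setting z P} {Fr : Frame S} [Finite G] (K : Fr.Kap)

theorem Kap.el_mem (σ : ↥Cfsg.M24) : K.el σ ∈ Subgroup.normalizer (Fr.A : Set G) := (K.κ σ).2

theorem Kap.act_perm (σ : ↥Cfsg.M24) {Q : ℕ} {M : List ℕ} (h : permOK M Q = true) (hlt : ∀ c ∈ M, c < 2048)
    (e : (σ : Equiv.Perm GolayPt) = permOf Q) : Fr.Act (K.el σ) M :=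
  Fr.act_of_toM24 K.hf (K.κ σ) hlt h (by rw [K.sect]; exact e)

theorem Kap.act_gen' {i : ℕ} (hi : i < 10) : Fr.Act (K.el (gσ i)) (gM.getD i []) :=
  K.act_perm _ (gen_in hi).2.1 (gen_in hi).2.2 (coe_gσ hi)

theorem Kap.act_ks {k : ℕ} (hk : k < 64) : Fr.Act (K.el (ks k)) (k6M.getD k []) :=
  K.act_perm _ (k6_in hk).2.1 (k6_in hk).2.2 (coe_ks hk)

theorem Kap.act_word : ∀ w : List ℕ, (∀ g ∈ w, g < 10) → Fr.Act (K.el (wS w)) (wM w)
  | [], _ => by rw [wS, wM, K.el_one]; exact Fr.act_one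
  | g :: w, h => by
    rw [wS, wM, K.el_mul]
    exact Fr.act_mul (K.act_gen' (h g (List.mem_cons_self ..)))
      (Kap.act_word w fun x hx => h x (List.mem_cons_of_mem _ hx))

theorem Kap.f_Av_el {v : ℕ} (hv : v < 2048) (σ : ↥Cfsg.M24)
    (h : Fr.Av v * K.el σ ∈ Subgroup.normalizer (Fr.A : Set G)) : K.f ⟨_, h⟩ = σ := by
  have h1 : K.f ⟨Fr.Av v, Subgroup.le_normalizer (Fr.Av_mem hv)⟩ = 1 := (K.ker _).2 (Fr.Av_mem hv)
  rw [show (⟨Fr.Av v * K.el σ, h⟩ : ↥(Subgroup.normalizer (Fr.A : Set G))) =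
    ⟨Fr.Av v, Subgroup.le_normalizer (Fr.Av_mem hv)⟩ * K.κ σ from rfl, map_mul, h1, one_mul, K.sect]

theorem Kap.form_inj {v w : ℕ} (hv : v < 2048) (hw : w < 2048) {σ τ : ↥Cfsg.M24}
    (h : Fr.Av v * K.el σ = Fr.Av w * K.el τ) : v = w ∧ σ = τ := by
  have hm := fun (u : ℕ) (hu : u < 2048) (ρ : ↥Cfsg.M24) =>
    (Subgroup.normalizer (Fr.A : Set G)).mul_mem (Subgroup.le_normalizer (Fr.Av_mem hu)) (K.el_mem ρ)
  have hσ : σ = τ := by
    rw [← K.f_Av_el hv σ (hm v hv σ), ← K.f_Av_el hw τ (hm w hw τ)]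
    exact congrArg K.f (Subtype.ext h)
  subst hσ
  exact ⟨Fr.Av_inj hv hw (mul_right_cancel h), rfl⟩

theorem Kap.el_inv (σ : ↥Cfsg.M24) : K.el σ⁻¹ = (K.el σ)⁻¹ :=
  eq_inv_of_mul_eq_one_left (by rw [← K.el_mul, inv_mul_cancel, K.el_one])

/-- Its normaliser. -/
def NZ (Fr : Frame S) : Subgroup G := Subgroup.normalizer (Fr.Zs : Set G)

theorem CZ_le_NZ : Fr.CZ ≤ Fr.NZ := Subgroup.centralizer_le_normalizer _

theorem Kap.el_gen_NZ {i : ℕ} (hi : i < 10) : K.el (gσ i) ∈ Fr.NZ := by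
  refine Subgroup.mem_normalizer_fintype ?_
  rintro _ ⟨v, hv, rfl⟩
  exact ⟨_, List.contains_iff_mem.1 (List.all_eq_true.1 (List.all_eq_true.1 Pentad.z_check.1 i (List.mem_range.2 hi)) v hv),
    ((K.act_gen' hi).eq v (zl_lt' hv)).symm⟩

theorem mem_CZ_of_act {g : G} {M : List ℕ} (h : Fr.Act g M) (hfix : ∀ v ∈ zl, app M v = v) : g ∈ Fr.CZ := by
  refine Subgroup.mem_centralizer_iff.2 ?_
  rintro _ ⟨v, hv, rfl⟩
  have := h.eq v (zl_lt' hv)
  rw [hfix v hv] at this
  exact (mul_inv_eq_iff_eq_mul.1 this).symm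

theorem Kap.el_gen_CZ {i : ℕ} (hi : i ∈ [2, 3, 4, 5, 6, 7, 8, 9]) : K.el (gσ i) ∈ Fr.CZ :=
  mem_CZ_of_act (K.act_gen' (by revert hi; revert i; decide)) fun v hv => by
    simpa using List.all_eq_true.1 (List.all_eq_true.1 Pentad.z_check.2.1 i hi) v hv

theorem Kap.el_ks_CZ {k : ℕ} (hk : k < 64) : K.el (ks k) ∈ Fr.CZ :=
  mem_CZ_of_act (K.act_ks hk) fun v hv => by
    simpa using List.all_eq_true.1 (List.all_eq_true.1 Pentad.z_check.2.2.1 k (List.mem_range.2 hk)) v hv

theorem Av_CZ {v : ℕ} (hv : v < 2048) : Fr.Av v ∈ Fr.CZ :=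
  Subgroup.mem_centralizer_iff.2 fun x hx => Fr.A_comm x (Fr.Zs_le_A hx) _ (Fr.Av_mem hv)

theorem Kap.el_s3_CZ {a : ℕ} (ha : a < 6) : K.el (wS (s3W.getD a [])) ∈ Fr.CZ := by
  have h : ∀ w : List ℕ, (∀ g ∈ w, g = 2 ∨ g = 3) → K.el (wS w) ∈ Fr.CZ := by
    intro w
    induction w with
    | nil => intro _; rw [wS, K.el_one]; exact one_mem _
    | cons g w ih =>
      intro hw
      rw [wS, K.el_mul]
      refine mul_mem (K.el_gen_CZ ?_) (ih fun x hx => hw x (List.mem_cons_of_mem _ hx))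
      rcases hw g (List.mem_cons_self ..) with rfl | rfl <;> decide
  refine h _ ?_
  interval_cases a <;> simp [s3W]

/-- The part of the centraliser in the normaliser. -/
def CA (Fr : Frame S) : Subgroup G := Fr.CZ ⊓ Subgroup.normalizer (Fr.A : Set G)

/-- The element with the three coordinates. -/
noncomputable def Kap.cm (u : Fin 2048 × Fin 64 × Fin 6) : G :=
  Fr.Av u.1 * K.el (ks u.2.1 * wS (s3W.getD u.2.2 []))

theorem Kap.cm_mem (u : Fin 2048 × Fin 64 × Fin 6) : K.cm u ∈ Fr.CA := by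
  refine Subgroup.mem_inf.2 ⟨mul_mem (Av_CZ u.1.2) ?_, mul_mem (Subgroup.le_normalizer (Fr.Av_mem u.1.2)) (K.el_mem _)⟩
  rw [K.el_mul]
  exact mul_mem (K.el_ks_CZ u.2.1.2) (K.el_s3_CZ u.2.2.2)

theorem s3_small {a : ℕ} (ha : a < 6) : ∀ g ∈ s3W.getD a [], g < 10 := by
  interval_cases a <;> simp [s3W]

theorem Kap.cm_inj : Function.Injective K.cm := by
  rintro ⟨v, k, a⟩ ⟨v', k', a'⟩ e
  obtain ⟨hv, hσ⟩ := K.form_inj v.2 v'.2 e
  simp only at hσ
  have act : ∀ (k : Fin 64) (a : Fin 6),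
      Fr.Act (K.el (ks k * wS (s3W.getD a []))) (mm (k6M.getD k []) (wM (s3W.getD a []))) := fun k a => by
    rw [K.el_mul]
    exact Fr.act_mul (K.act_ks k.2) (K.act_word _ (s3_small a.2))
  have key : ∀ x < 2048, cls (app (wM (s3W.getD a [])) x) = cls (app (wM (s3W.getD a' [])) x) := fun x hx => by
    have h1 := (act k a).eq x hx
    have h2 := (act k' a').eq x hx
    rw [hσ, h2] at h1
    have h3 := Fr.Av_inj ((act k' a').lt x) ((act k a).lt x) h1
    rw [app_mm, app_mm] at h3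
    have h4 := congrArg cls h3
    rwa [cls_pres_k6 k'.2 ((K.act_word _ (s3_small a'.2)).lt x), cls_pres_k6 k.2 ((K.act_word _ (s3_small a.2)).lt x),
      eq_comm] at h4
  have ha : a = a' := by
    by_contra hne
    have h := List.all_eq_true.1 (List.all_eq_true.1 s3_check a (List.mem_range.2 a.2)) a' (List.mem_range.2 a'.2)
    simp only [Bool.or_eq_true, beq_iff_eq, bne_iff_ne, ne_eq, key 128 (by norm_num), key 1024 (by norm_num),
      not_true_eq_false, or_false] at h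
    exact hne (Fin.ext h)
  subst ha
  have hk := ks_inj k.2 k'.2 (mul_right_cancel hσ)
  exact Prod.ext (Fin.ext hv) (Prod.ext (Fin.ext hk) rfl)

include K in
theorem Kap.card_CA_ge : 2 ^ 18 * 3 ≤ Nat.card ↥Fr.CA := by
  have h := Nat.card_le_card_of_injective (fun u => (⟨K.cm u, K.cm_mem u⟩ : ↥Fr.CA)) fun u v e =>
    K.cm_inj (congrArg Subtype.val e)
  simp only [Nat.card_prod, Nat.card_fin] at h
  norm_num at h ⊢
  exact h

end Frame

end Cfsg.Agent.Spor.JFour
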