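import Cfsg.Agent.Lib.Spor.JFourType.Pentad.Theta

/-!
The normaliser of the group of order 8 permutes five cosets of the normaliser of the elementary abelian group of
order 2¹¹: the symmetric group of degree 5 on them, the kernel in the centraliser being a group of order 2¹⁵.
-/

set_option autoImplicit false
set_option maxRecDepth 100000
set_option linter.style.haveILetI false
set_option synthInstance.maxSize 1024

open Cfsg Cfsg.Agent.Spor.Golay
open Cfsg.Agent.Spor.Cos.J4Sub (app mm app_mm app_xor app_zero)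

namespace Cfsg.Agent.Spor.JFour

open Mathieu

namespace Pentad

theorem small_sym {k : ℕ} (hk : k ≤ 3) : ∀ p q : Equiv.Perm (Fin k), p * p = 1 → q * q = 1 → p * q = q * p →
    p = 1 ∨ q = 1 ∨ p = q := by
  interval_cases k <;> decide +kernel


set_option synthInstance.maxHeartbeats 200000 in
theorem four_sym : ∀ p : Equiv.Perm (Fin 4), p * p = 1 → p ≠ 1 → ∀ q : Equiv.Perm (Fin 4), q * q = 1 → q ≠ 1 →
    q ≠ p → p * q = q * p → ∀ r : Equiv.Perm (Fin 4), r * p = p * r → r * q = q * r →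
    r = 1 ∨ r = p ∨ r = q ∨ r = p * q := by
  decide +kernel

end Pentad

namespace Frame

open Pentad

variable {G : Type*} [Group G] {z : G} {P : Subgroup G} {S : Setting z P} {Fr : Frame S} [Finite G] (K : Fr.Kap)

/-- The five cosets. -/
abbrev Pts (Fr : Frame S) : Type _ := ↥Fr.NZ ⧸ (Subgroup.normalizer (Fr.A : Set G)).subgroupOf Fr.NZ

/-- The action on them. -/
noncomputable def perm5 (Fr : Frame S) : ↥Fr.NZ →* Equiv.Perm Fr.Pts := MulAction.toPermHom ↥Fr.NZ Fr.Pts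

/-- The base point. -/
def base (Fr : Frame S) : Fr.Pts := QuotientGroup.mk 1

theorem perm5_mk (n m : ↥Fr.NZ) : perm5 Fr n (QuotientGroup.mk m) = QuotientGroup.mk (n * m) := rfl

theorem perm5_base {n : ↥Fr.NZ} : perm5 Fr n (base Fr) = base Fr ↔ (n : G) ∈ Subgroup.normalizer (Fr.A : Set G) := by
  rw [base, perm5_mk, mul_one, QuotientGroup.eq, mul_one, Subgroup.mem_subgroupOf, Subgroup.coe_inv, inv_mem_iff]

include K in
theorem exists_rep_CZ (x : Fr.Pts) : ∃ (c : G) (hc : c ∈ Fr.CZ), x = QuotientGroup.mk ⟨c, CZ_le_NZ hc⟩ := by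
  induction x using QuotientGroup.induction_on with
  | _ n =>
    obtain ⟨σ, -, h⟩ := K.NZ_eq n.2
    refine ⟨_, h, QuotientGroup.eq.2 ?_⟩
    rw [Subgroup.mem_subgroupOf, Subgroup.coe_mul, Subgroup.coe_inv, inv_mul_cancel_left]
    exact inv_mem (K.el_mem σ)

include K in
theorem index_CA : Nat.card Fr.Pts ≤ (Fr.CA.subgroupOf Fr.CZ).index ∧
    (Fr.CA.subgroupOf Fr.CZ).index * Nat.card ↥Fr.CA = Nat.card ↥Fr.CZ := by
  refine ⟨?_, ?_⟩
  · refine Nat.card_le_card_of_surjective (fun q : ↥Fr.CZ ⧸ Fr.CA.subgroupOf Fr.CZ =>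
      (QuotientGroup.mk ⟨(q.out : G), CZ_le_NZ q.out.2⟩ : Fr.Pts)) fun x => ?_
    obtain ⟨c, hc, rfl⟩ := exists_rep_CZ K x
    refine ⟨QuotientGroup.mk ⟨c, hc⟩, QuotientGroup.eq.2 ?_⟩
    have h := QuotientGroup.eq.1 (QuotientGroup.out_eq' (QuotientGroup.mk (⟨c, hc⟩ : ↥Fr.CZ) :
      ↥Fr.CZ ⧸ Fr.CA.subgroupOf Fr.CZ))
    rw [Subgroup.mem_subgroupOf] at h ⊢
    exact (Subgroup.mem_inf.1 h).2
  · have hle : Fr.CA ≤ Fr.CZ := inf_le_left
    rw [← Nat.card_congr (Subgroup.subgroupOfEquivOfLe hle).toEquiv, Subgroup.index_mul_card]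

include K in
theorem card_Pts_le : Nat.card Fr.Pts ≤ 5 := by
  obtain ⟨h1, h2⟩ := index_CA K
  have h3 := Fr.card_CZ_le
  have h4 := K.card_CA_ge
  rw [← h2] at h3
  by_contra hc
  have : 6 * (2 ^ 18 * 3) ≤ (Fr.CA.subgroupOf Fr.CZ).index * Nat.card ↥Fr.CA :=
    Nat.mul_le_mul (by omega) h4
  norm_num at h3 this
  omega

theorem Av_NZ {v : ℕ} (hv : v < 2048) : Fr.Av v ∈ Fr.NZ := CZ_le_NZ (Av_CZ hv)

/-- The permutation of an element of the group of order 2¹¹. -/
noncomputable def aperm (Fr : Frame S) (v : ℕ) : Equiv.Perm Fr.Pts :=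
  perm5 Fr ⟨Fr.Av (v % 2048), Av_NZ (Nat.mod_lt _ (by norm_num))⟩

theorem aperm_eq {v : ℕ} (hv : v < 2048) : aperm Fr v = perm5 Fr ⟨Fr.Av v, Av_NZ hv⟩ :=
  congrArg (perm5 Fr) (Subtype.ext (congrArg Fr.Av (Nat.mod_eq_of_lt hv)))

theorem aperm_mul {u v : ℕ} (hu : u < 2048) (hv : v < 2048) : aperm Fr (u ^^^ v) = aperm Fr u * aperm Fr v := by
  rw [aperm_eq hu, aperm_eq hv, aperm_eq (Nat.xor_lt_two_pow (n := 11) hu hv), ← map_mul]
  exact congrArg (perm5 Fr) (Subtype.ext (Fr.Av_mul hu hv).symm)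

theorem aperm_zero : aperm Fr 0 = 1 := by
  rw [aperm_eq (by norm_num), show (⟨Fr.Av 0, _⟩ : ↥Fr.NZ) = 1 from Subtype.ext Fr.Av_zero, map_one]

theorem aperm_act {n : G} (hn : n ∈ Fr.NZ) {M : List ℕ} (h : Fr.Act n M) {v : ℕ} (hv : v < 2048) :
    perm5 Fr ⟨n, hn⟩ * aperm Fr v * (perm5 Fr ⟨n, hn⟩)⁻¹ = aperm Fr (app M v) := by
  rw [aperm_eq hv, aperm_eq (h.lt v), ← map_inv, ← map_mul, ← map_mul]
  exact congrArg (perm5 Fr) (Subtype.ext (h.eq v hv))

include K in
/-- The elements of the core act trivially. -/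
theorem perm5_core {x : G} (hx : x ∈ twoCoreOfCentralizer z) (hxC : x ∈ Fr.CZ) :
    perm5 Fr ⟨x, CZ_le_NZ hxC⟩ = 1 := by
  refine Equiv.ext fun p => ?_
  obtain ⟨c, hc, rfl⟩ := exists_rep_CZ K p
  rw [perm5_mk, Equiv.Perm.one_apply]
  refine QuotientGroup.eq.2 ?_
  rw [Subgroup.mem_subgroupOf, Subgroup.coe_mul, Subgroup.coe_inv, Subgroup.coe_mul]
  refine Fr.core_mem_normalizer ?_
  show (x * c)⁻¹ * c ∈ twoCoreOfCentralizer z
  rw [show (x * c)⁻¹ * c = c⁻¹ * x⁻¹ * c⁻¹⁻¹ by group]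
  exact S.ext.norm c⁻¹ (Subgroup.mem_centralizer_singleton_iff.1 (Fr.CZ_le (inv_mem hc))) _ (inv_mem hx)

include K in
/-- The kernel on the group of order 2¹¹. -/
theorem aperm_eq_one {v : ℕ} (hv : v < 2048) : aperm Fr v = 1 ↔ cls v = 0 := by
  have hlow : ∀ w < 128, aperm Fr w = 1 := fun w hw => by
    rw [aperm_eq (hw.trans (by norm_num))]
    exact perm5_core K (Fr.Av_core hw) (Av_CZ (hw.trans (by norm_num)))
  have hzero : ∀ {w : ℕ}, w < 2048 → cls w = 0 → aperm Fr w = 1 := fun {w} hw hc => by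
    refine a9_induction (p := fun w => aperm Fr w = 1) aperm_zero (fun a ha b hb p q => by
      rw [aperm_mul ha hb, p, q, one_mul]) (fun u hu => ?_) hw hc
    have hb : ∀ x, x < 128 → aperm Fr (app (gM.getD 1 []) x) = 1 := fun x hx => by
      rw [← aperm_act (K.el_gen_NZ (show 1 < 10 by norm_num)) (K.act_gen' (by norm_num)) (hx.trans (by norm_num)),
        hlow x hx, mul_one, mul_inv_cancel]
    simp only [a9B, List.mem_cons, List.not_mem_nil, or_false] at hu
    rcases hu with rfl | rfl | rfl | rfl | rfl | rfl | rfl | rfl | rfl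
    iterate 7 exact hlow _ (by norm_num)
    · rw [← Pentad.cls_check.2.2.2.2.2.2.1]; exact hb 4 (by norm_num)
    · rw [← Pentad.cls_check.2.2.2.2.2.2.2]; exact hb 16 (by norm_num)
  refine ⟨fun h => ?_, hzero hv⟩
  by_contra hne
  -- everything would be trivial
  have hall : ∀ w < 2048, aperm Fr w = 1 := fun w hw => by
    set M := gM.getD 2 [] with hM
    have hA := K.act_gen' (show 2 < 10 by norm_num)
    have h1 : aperm Fr (app M v) = 1 := by
      rw [← aperm_act (K.el_gen_NZ (show 2 < 10 by norm_num)) hA hv, h, mul_one, mul_inv_cancel]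
    have hr := List.all_eq_true.1 Pentad.rho_check v (List.mem_range.2 hv)
    simp only [Bool.or_eq_true, beq_iff_eq, hne, false_or, Bool.and_eq_true, bne_iff_ne, ne_eq] at hr
    have hlt := hA.lt v
    obtain ⟨x, hx, hxc, hx1⟩ : ∃ x, x < 2048 ∧ cls x = cls w ∧ aperm Fr x = 1 := by
      have h4 : ∀ a < 4, ∀ b < 4, ∀ c < 4, a ≠ 0 → b ≠ 0 → b ≠ a →
          c = 0 ∨ c = a ∨ c = b ∨ c = a ^^^ b := by decide
      rcases h4 _ (cls_lt hv) _ (cls_lt hlt) (cls w) (cls_lt hw) hne hr.2 hr.1 with e | e | e | e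
      · exact ⟨0, by norm_num, by rw [e]; rfl, aperm_zero⟩
      · exact ⟨v, hv, e.symm, h⟩
      · exact ⟨_, hlt, e.symm, h1⟩
      · exact ⟨_, Nat.xor_lt_two_pow (n := 11) hv hlt, by rw [cls_xor, e], by rw [aperm_mul hv hlt, h, h1, one_mul]⟩
    have hwx := Nat.xor_lt_two_pow (n := 11) hw hx
    rw [show w = (w ^^^ x) ^^^ x by rw [Nat.xor_assoc, Nat.xor_self, Nat.xor_zero], aperm_mul hwx hx, hx1,
      hzero hwx (by rw [cls_xor, hxc, Nat.xor_self]), one_mul]
  obtain ⟨e, heC, heN⟩ := Fr.exists_outside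
  refine heN ?_
  have : e⁻¹ ∈ Subgroup.normalizer (Fr.A : Set G) := Fr.normalizer_of_conj_le fun a ha => by
    obtain ⟨w, hw, rfl⟩ := Fr.mem_A.1 ha
    have h1 := Equiv.ext_iff.1 (hall w hw) (QuotientGroup.mk ⟨e, CZ_le_NZ heC⟩)
    rw [aperm_eq hw, perm5_mk, Equiv.Perm.one_apply, eq_comm, QuotientGroup.eq, Subgroup.mem_subgroupOf,
      Subgroup.coe_mul, Subgroup.coe_inv, Subgroup.coe_mul] at h1
    rw [inv_inv, mul_assoc]
    exact h1
  simpa using inv_mem this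

/-- The points other than the base point. -/
abbrev Others (Fr : Frame S) : Type _ := {x : Fr.Pts // x ≠ base Fr}

/-- The stabiliser of the base point. -/
def stab5 (Fr : Frame S) : Subgroup ↥Fr.NZ := (Subgroup.normalizer (Fr.A : Set G)).subgroupOf Fr.NZ

theorem stab5_ne {n : ↥Fr.NZ} (hn : n ∈ stab5 Fr) (x : Fr.Pts) : perm5 Fr n x ≠ base Fr ↔ x ≠ base Fr := by
  have hb := perm5_base.2 (Subgroup.mem_subgroupOf.1 hn)
  refine not_congr ⟨fun h => (perm5 Fr n).injective (h.trans hb.symm), fun h => by rw [h, hb]⟩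

/-- The action of the stabiliser on the others. -/
noncomputable def restr (Fr : Frame S) : ↥(stab5 Fr) →* Equiv.Perm Fr.Others where
  toFun n := (perm5 Fr n.1).subtypePerm (stab5_ne n.2)
  map_one' := Equiv.ext fun x => Subtype.ext (by simp)
  map_mul' m n := Equiv.ext fun x => Subtype.ext (by simp; rfl)

theorem restr_inj {m n : ↥(stab5 Fr)} (h : restr Fr m = restr Fr n) : perm5 Fr m.1 = perm5 Fr n.1 := by
  refine Equiv.ext fun x => ?_
  by_cases hx : x = base Fr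
  · rw [hx, perm5_base.2 (Subgroup.mem_subgroupOf.1 m.2), perm5_base.2 (Subgroup.mem_subgroupOf.1 n.2)]
  · exact congrArg Subtype.val (Equiv.ext_iff.1 h ⟨x, hx⟩)

theorem Av_stab {v : ℕ} (hv : v < 2048) : (⟨Fr.Av v, Av_NZ hv⟩ : ↥Fr.NZ) ∈ stab5 Fr :=
  Subgroup.mem_subgroupOf.2 (Subgroup.le_normalizer (Fr.Av_mem hv))

/-- The restricted permutation of an element of the group of order 2¹¹. -/
noncomputable def apo (Fr : Frame S) (v : ℕ) (hv : v < 2048) : Equiv.Perm Fr.Others := restr Fr ⟨_, Av_stab hv⟩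

theorem apo_mul {u v : ℕ} (hu : u < 2048) (hv : v < 2048) :
    apo Fr u hu * apo Fr v hv = apo Fr (u ^^^ v) (Nat.xor_lt_two_pow (n := 11) hu hv) := by
  rw [apo, apo, apo, ← map_mul]
  exact congrArg (restr Fr) (Subtype.ext (Subtype.ext (Fr.Av_mul hu hv)))

include K in
theorem apo_inj {u v : ℕ} (hu : u < 2048) (hv : v < 2048) (h : apo Fr u hu = apo Fr v hv) : cls u = cls v := by
  have h1 := restr_inj h
  change perm5 Fr ⟨Fr.Av u, _⟩ = perm5 Fr ⟨Fr.Av v, _⟩ at h1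
  rw [← aperm_eq hu, ← aperm_eq hv] at h1
  have h2 : aperm Fr (u ^^^ v) = 1 := by
    rw [aperm_mul hu hv, h1, ← aperm_mul hv hv, Nat.xor_self, aperm_zero]
  rw [aperm_eq_one K (Nat.xor_lt_two_pow (n := 11) hu hv), cls_xor] at h2
  exact Nat.xor_eq_zero_iff.1 h2

include K in
theorem four_facts : (∀ u v, ∀ (hu : u < 2048) (hv : v < 2048), apo Fr u hu * apo Fr v hv = apo Fr v hv * apo Fr u hu) ∧
    apo Fr 128 (by norm_num) * apo Fr 128 (by norm_num) = 1 ∧
    apo Fr 1024 (by norm_num) * apo Fr 1024 (by norm_num) = 1 ∧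
    apo Fr 128 (by norm_num) ≠ 1 ∧ apo Fr 1024 (by norm_num) ≠ 1 ∧
    apo Fr 1024 (by norm_num) ≠ apo Fr 128 (by norm_num) := by
  have h0 : apo Fr 0 (by norm_num) = 1 := by
    have : (⟨_, Av_stab (Fr := Fr) (show 0 < 2048 by norm_num)⟩ : ↥(stab5 Fr)) = 1 :=
      Subtype.ext (Subtype.ext Fr.Av_zero)
    rw [apo, this, map_one]
  obtain ⟨-, -, -, -, c128, c1024, -, -⟩ := Pentad.cls_check
  refine ⟨fun u v hu hv => ?_, ?_, ?_, fun h => ?_, fun h => ?_, fun h => ?_⟩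
  · rw [apo_mul, apo_mul]
    exact congrArg (restr Fr) (Subtype.ext (Subtype.ext (congrArg Fr.Av (Nat.xor_comm u v))))
  · rw [apo_mul]; exact h0
  · rw [apo_mul]; exact h0
  · have := apo_inj K (by norm_num) (by norm_num) (h.trans h0.symm)
    rw [c128] at this; exact absurd this (by decide)
  · have := apo_inj K (by norm_num) (by norm_num) (h.trans h0.symm)
    rw [c1024] at this; exact absurd this (by decide)
  · have := apo_inj K (by norm_num) (by norm_num) h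
    rw [c128, c1024] at this; exact absurd this (by decide)

include K in
theorem card_others : Nat.card Fr.Others = 4 ∧ Nat.card Fr.Pts = 5 := by
  classical
  haveI : Fintype Fr.Pts := Fintype.ofFinite _
  have h5 := card_Pts_le K
  have hc : Nat.card Fr.Others + 1 = Nat.card Fr.Pts := by
    rw [Nat.card_eq_fintype_card, Nat.card_eq_fintype_card, Fintype.card_subtype_compl, Fintype.card_subtype_eq]
    have : 0 < Fintype.card Fr.Pts := Fintype.card_pos_iff.2 ⟨base Fr⟩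
    omega
  have h4 : ¬ Nat.card Fr.Others ≤ 3 := fun h3 => by
    obtain ⟨hcm, hp, hq, hp1, hq1, hpq⟩ := four_facts K
    let e : Equiv.Perm Fr.Others ≃* Equiv.Perm (Fin (Nat.card Fr.Others)) :=
      (Finite.equivFin Fr.Others).permCongrHom
    rcases small_sym h3 (e (apo Fr 128 (by norm_num))) (e (apo Fr 1024 (by norm_num))) (by rw [← map_mul, hp, map_one])
        (by rw [← map_mul, hq, map_one]) (by rw [← map_mul, ← map_mul, hcm]) with h | h | h
    · exact hp1 (e.injective (by rw [h, map_one]))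
    · exact hq1 (e.injective (by rw [h, map_one]))
    · exact hpq (e.injective h).symm
  omega

include K in
/-- A permutation of the others commuting with the four group lies in it. -/
theorem comm_four {r : Equiv.Perm Fr.Others}
    (h1 : r * apo Fr 128 (by norm_num) = apo Fr 128 (by norm_num) * r)
    (h2 : r * apo Fr 1024 (by norm_num) = apo Fr 1024 (by norm_num) * r) :
    r = 1 ∨ r = apo Fr 128 (by norm_num) ∨ r = apo Fr 1024 (by norm_num) ∨
      r = apo Fr 128 (by norm_num) * apo Fr 1024 (by norm_num) := by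
  obtain ⟨hcm, hp, hq, hp1, hq1, hpq⟩ := four_facts K
  let e : Equiv.Perm Fr.Others ≃* Equiv.Perm (Fin 4) :=
    (Finite.equivFinOfCardEq (card_others K).1).permCongrHom
  have := four_sym (e (apo Fr 128 (by norm_num))) (by rw [← map_mul, hp, map_one])
    (fun h => hp1 (e.injective (by rw [h, map_one]))) (e (apo Fr 1024 (by norm_num))) (by rw [← map_mul, hq, map_one])
    (fun h => hq1 (e.injective (by rw [h, map_one]))) (fun h => hpq (e.injective h)) (by rw [← map_mul, ← map_mul, hcm])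
    (e r) (by rw [← map_mul, ← map_mul, h1]) (by rw [← map_mul, ← map_mul, h2])
  rcases this with h | h | h | h
  · exact Or.inl (e.injective (by rw [h, map_one]))
  · exact Or.inr (Or.inl (e.injective h))
  · exact Or.inr (Or.inr (Or.inl (e.injective h)))
  · exact Or.inr (Or.inr (Or.inr (e.injective (by rw [h, map_mul]))))

theorem Kap.el_stab {σ : ↥Cfsg.M24} (h : K.el σ ∈ Fr.NZ) : (⟨K.el σ, h⟩ : ↥Fr.NZ) ∈ stab5 Fr :=
  Subgroup.mem_subgroupOf.2 (K.el_mem σ)

include K in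
/-- Stabiliser elements fixing the classes act on the others as the four group. -/
theorem comm_stab {m n : ↥(stab5 Fr)}
    (hm : ∃ M, Fr.Act (m.1 : G) M ∧ ∀ v < 2048, cls (app M v) = cls v)
    (hn : ∃ M, Fr.Act (n.1 : G) M ∧ ∀ v < 2048, cls (app M v) = cls v) :
    restr Fr m * restr Fr n = restr Fr n * restr Fr m := by
  have hcomm : ∀ (x : ↥(stab5 Fr)), (∃ M, Fr.Act (x.1 : G) M ∧ ∀ v < 2048, cls (app M v) = cls v) →
      ∀ v (hv : v < 2048), restr Fr x * apo Fr v hv = apo Fr v hv * restr Fr x := by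
    rintro x ⟨M, hM, hc⟩ v hv
    have h1 := aperm_act x.1.2 hM hv
    have h2 : aperm Fr (app M v) = aperm Fr v := by
      have := (aperm_eq_one K (Nat.xor_lt_two_pow (n := 11) (hM.lt v) hv)).2 (by rw [cls_xor, hc v hv, Nat.xor_self])
      rw [aperm_mul (hM.lt v) hv, mul_eq_one_iff_eq_inv] at this
      rw [this, inv_eq_of_mul_eq_one_right (by rw [← aperm_mul hv hv, Nat.xor_self, aperm_zero])]
    rw [h2, mul_inv_eq_iff_eq_mul, aperm_eq hv] at h1
    refine Equiv.ext fun p => Subtype.ext ?_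
    exact Equiv.ext_iff.1 h1 p.1
  obtain ⟨hcm, -⟩ := four_facts K
  have hin := comm_four K (hcomm m hm 128 (by norm_num)) (hcomm m hm 1024 (by norm_num))
  rcases hin with h | h | h | h <;> rw [h]
  · rw [one_mul, mul_one]
  · exact (hcomm n hn _ _).symm
  · exact (hcomm n hn _ _).symm
  · exact ((Commute.mul_left (show Commute _ (restr Fr n) from (hcomm n hn 128 (by norm_num)).symm)
      (show Commute _ (restr Fr n) from (hcomm n hn 1024 (by norm_num)).symm))).eq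

/-- The element of the complement in the stabiliser. -/
noncomputable def Kap.est {σ : ↥Cfsg.M24} (h : K.el σ ∈ Fr.NZ) : ↥(stab5 Fr) := ⟨_, K.el_stab h⟩

theorem Kap.ks_NZ {k : ℕ} (hk : k < 64) : K.el (ks k) ∈ Fr.NZ := CZ_le_NZ (K.el_ks_CZ hk)

/-- The commutators act trivially. -/
theorem Kap.perm5_ks {k : ℕ} (hk : k < 64) : perm5 Fr ⟨K.el (ks k), K.ks_NZ hk⟩ = 1 := by
  revert hk
  suffices H : ∀ k < 2 ^ 6, ∀ h : K.el (ks k) ∈ Fr.NZ, perm5 Fr ⟨K.el (ks k), h⟩ = 1 from fun hk => H k hk _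
  refine xor_induction (p := fun k => ∀ h : K.el (ks k) ∈ Fr.NZ, perm5 Fr ⟨K.el (ks k), h⟩ = 1) (fun h => ?_) 6
    fun i hi m hm ih h => ?_
  · rw [show (⟨K.el (ks 0), h⟩ : ↥Fr.NZ) = 1 from Subtype.ext (by show K.el (ks 0) = 1; rw [ks_zero, K.el_one]), map_one]
  · have hm64 : m < 64 := hm.trans (Nat.pow_lt_pow_right (by norm_num) hi)
    have hpow : 2 ^ i < 64 := Nat.pow_lt_pow_right (by norm_num) hi
    obtain ⟨t, ht, j, hj, e⟩ := comm_spec hi
    rw [← ks_two_pow hi] at e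
    have htN := K.el_gen_NZ (show t < 10 by omega)
    have hc := comm_stab K (m := K.est htN) (n := K.est (K.ks_NZ hj))
      ⟨_, K.act_gen' (show t < 10 by omega), fun v hv => cls_pres_gen (by interval_cases t <;> decide) hv⟩
      ⟨_, K.act_ks hj, fun v hv => cls_pres_k6 hj hv⟩
    have h1 : K.est htN * K.est (K.ks_NZ hj) = K.est (K.ks_NZ hpow) * K.est (K.ks_NZ hj) * K.est htN :=
      Subtype.ext (Subtype.ext (by
        show K.el _ * K.el _ = K.el _ * K.el _ * K.el _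
        rw [← K.el_mul, e, K.el_mul, K.el_mul]))
    have h2 : restr Fr (K.est (K.ks_NZ hpow)) = restr Fr 1 := by
      have := congrArg (restr Fr) h1
      rw [map_mul, map_mul, map_mul, hc, mul_assoc] at this
      rw [map_one]
      exact right_eq_mul.1 this
    have h3 : perm5 Fr ⟨K.el (ks (2 ^ i)), K.ks_NZ hpow⟩ = 1 := (restr_inj h2).trans (map_one _)
    have h4 : (⟨K.el (ks (2 ^ i ^^^ m)), h⟩ : ↥Fr.NZ) =
        ⟨K.el (ks (2 ^ i)), K.ks_NZ hpow⟩ * ⟨K.el (ks m), K.ks_NZ hm64⟩ := Subtype.ext (by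
      show K.el _ = K.el _ * K.el _
      rw [← K.el_mul, ks_mul hpow hm64])
    rw [h4, map_mul, h3, ih, mul_one]

/-- The kernel: the subgroup of index four times the commutators. -/
def Kap.L : Subgroup G where
  carrier := {g | ∃ v < 2048, cls v = 0 ∧ ∃ k < 64, g = Fr.Av v * K.el (ks k)}
  one_mem' := ⟨0, by norm_num, rfl, 0, by norm_num, by rw [Fr.Av_zero, ks_zero, K.el_one, one_mul]⟩
  mul_mem' := by
    rintro _ _ ⟨v, hv, hc, k, hk, rfl⟩ ⟨w, hw, hd, j, hj, rfl⟩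
    have hA := K.act_ks hk
    refine ⟨v ^^^ app (k6M.getD k []) w, Nat.xor_lt_two_pow (n := 11) hv (hA.lt w),
      by rw [cls_xor, cls_pres_k6 hk hw, hc, hd, Nat.xor_self], k ^^^ j, Nat.xor_lt_two_pow (n := 6) hk hj, ?_⟩
    rw [← ks_mul hk hj, K.el_mul, ← Fr.Av_mul hv (hA.lt w), ← hA.eq w hw]
    group
  inv_mem' := by
    rintro _ ⟨v, hv, hc, k, hk, rfl⟩
    have hA := K.act_ks hk
    refine ⟨app (k6M.getD k []) v, hA.lt v, by rw [cls_pres_k6 hk hv, hc], k, hk, ?_⟩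
    refine inv_eq_of_mul_eq_one_right ?_
    rw [← hA.eq v hv,
      show Fr.Av v * K.el (ks k) * (K.el (ks k) * Fr.Av v * (K.el (ks k))⁻¹ * K.el (ks k)) =
        Fr.Av v * (K.el (ks k) * K.el (ks k)) * Fr.Av v by group,
      ← K.el_mul, ks_mul hk hk, Nat.xor_self, ks_zero, K.el_one, mul_one, Fr.Av_mul hv hv, Nat.xor_self, Fr.Av_zero]

theorem Kap.mem_L {g : G} : g ∈ K.L ↔ ∃ v < 2048, cls v = 0 ∧ ∃ k < 64, g = Fr.Av v * K.el (ks k) := Iff.rfl

theorem Kap.L_le_CA : K.L ≤ Fr.CA := by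
  rintro _ ⟨v, hv, -, k, hk, rfl⟩
  exact Subgroup.mem_inf.2 ⟨mul_mem (Av_CZ hv) (K.el_ks_CZ hk),
    mul_mem (Subgroup.le_normalizer (Fr.Av_mem hv)) (K.el_mem _)⟩

theorem Kap.L_le_NZ : K.L ≤ Fr.NZ := K.L_le_CA.trans (inf_le_left.trans CZ_le_NZ)

theorem Kap.card_L : Nat.card ↥K.L = 2 ^ 15 := by
  classical
  let f : {v // v ∈ (Finset.range 2048).filter fun v => cls v = 0} × Fin 64 → ↥K.L := fun u =>
    ⟨Fr.Av u.1.1 * K.el (ks u.2), u.1.1, Finset.mem_range.1 (Finset.mem_filter.1 u.1.2).1,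
      (Finset.mem_filter.1 u.1.2).2, u.2, u.2.2, rfl⟩
  have hf : Function.Bijective f := by
    constructor
    · rintro ⟨⟨v, hv⟩, k⟩ ⟨⟨w, hw⟩, j⟩ e
      obtain ⟨h1, h2⟩ := K.form_inj (Finset.mem_range.1 (Finset.mem_filter.1 hv).1)
        (Finset.mem_range.1 (Finset.mem_filter.1 hw).1) (congrArg Subtype.val e)
      exact Prod.ext (Subtype.ext h1) (Fin.ext (ks_inj k.2 j.2 h2))
    · rintro ⟨_, v, hv, hc, k, hk, rfl⟩
      exact ⟨⟨⟨v, Finset.mem_filter.2 ⟨Finset.mem_range.2 hv, hc⟩⟩, ⟨k, hk⟩⟩, rfl⟩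
  rw [← Nat.card_eq_of_bijective f hf, Nat.card_prod, Nat.card_eq_finsetCard, Pentad.a9_check.2, Nat.card_fin]
  norm_num

include K in
theorem card_CA_CZ : Nat.card ↥Fr.CA = 2 ^ 18 * 3 ∧ Nat.card ↥Fr.CZ = 2 ^ 18 * 15 := by
  obtain ⟨h1, h2⟩ := index_CA K
  rw [(card_others K).2] at h1
  have h3 := Fr.card_CZ_le
  have h4 := K.card_CA_ge
  rw [← h2] at h3 ⊢
  norm_num at h3 h4 ⊢
  have := Nat.mul_le_mul h1 h4
  have h5 : 5 * Nat.card ↥Fr.CA ≤ (Fr.CA.subgroupOf Fr.CZ).index * Nat.card ↥Fr.CA := Nat.mul_le_mul_right _ h1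
  constructor
  · omega
  · omega

/-- The kernel in the centraliser. -/
theorem Kap.perm5_eq_one {n : ↥Fr.NZ} : (n : G) ∈ Fr.CZ ∧ perm5 Fr n = 1 ↔ (n : G) ∈ K.L := by
  have hform : ∀ {v k : ℕ} (hv : v < 2048) (hk : k < 64) (h : Fr.Av v * K.el (ks k) ∈ Fr.NZ),
      perm5 Fr ⟨_, h⟩ = aperm Fr v := fun {v k} hv hk h => by
    rw [show (⟨_, h⟩ : ↥Fr.NZ) = ⟨Fr.Av v, Av_NZ hv⟩ * ⟨K.el (ks k), K.ks_NZ hk⟩ from rfl, map_mul, K.perm5_ks hk,
      mul_one, aperm_eq hv]
  constructor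
  · rintro ⟨hC, h1⟩
    have hA : (n : G) ∈ Fr.CA := Subgroup.mem_inf.2 ⟨hC, perm5_base.1 (by rw [h1]; rfl)⟩
    have hcard : Nat.card (Fin 2048 × Fin 64 × Fin 6) = Nat.card ↥Fr.CA := by
      rw [(card_CA_CZ K).1, Nat.card_prod, Nat.card_prod, Nat.card_fin, Nat.card_fin, Nat.card_fin]; norm_num
    obtain ⟨⟨v, k, a⟩, hu⟩ := (Nat.bijective_iff_injective_and_card
      (fun u => (⟨K.cm u, K.cm_mem u⟩ : ↥Fr.CA))).2 ⟨fun u v e => K.cm_inj (congrArg Subtype.val e), hcard⟩ |>.2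
      ⟨n, hA⟩
    have he : (n : G) = Fr.Av v * K.el (ks k * wS (s3W.getD a [])) := (congrArg Subtype.val hu).symm
    have hwN : K.el (wS (s3W.getD a [])) ∈ Fr.NZ := CZ_le_NZ (K.el_s3_CZ a.2)
    have hw : perm5 Fr ⟨_, hwN⟩ = aperm Fr v := by
      have hn : n = ⟨Fr.Av v, Av_NZ v.2⟩ * ⟨K.el (ks k), K.ks_NZ k.2⟩ * ⟨_, hwN⟩ := Subtype.ext (by
        show (n : G) = Fr.Av v * K.el _ * K.el _
        rw [he, K.el_mul, mul_assoc])
      rw [hn, map_mul, map_mul, K.perm5_ks k.2, mul_one, ← aperm_eq v.2, mul_eq_one_iff_inv_eq] at h1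
      rw [← h1]
      exact inv_eq_of_mul_eq_one_right (by rw [← aperm_mul v.2 v.2, Nat.xor_self, aperm_zero])
    have hM := K.act_word _ (s3_small a.2)
    have key : ∀ x < 2048, cls (app (wM (s3W.getD a [])) x) = cls x := fun x hx => by
      have h2 := aperm_act hwN hM hx
      rw [hw, ← aperm_mul v.2 hx, inv_eq_of_mul_eq_one_right (show aperm Fr v * aperm Fr v = 1 by
        rw [← aperm_mul v.2 v.2, Nat.xor_self, aperm_zero]),
        ← aperm_mul (Nat.xor_lt_two_pow (n := 11) v.2 hx) v.2, Nat.xor_comm (v : ℕ) x, Nat.xor_assoc, Nat.xor_self,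
        Nat.xor_zero] at h2
      have h3 : aperm Fr (app (wM (s3W.getD a [])) x ^^^ x) = 1 := by
        rw [aperm_mul (hM.lt x) hx, ← h2, ← aperm_mul hx hx, Nat.xor_self, aperm_zero]
      rw [aperm_eq_one K (Nat.xor_lt_two_pow (n := 11) (hM.lt x) hx), cls_xor] at h3
      exact Nat.xor_eq_zero_iff.1 h3
    have ha : (a : ℕ) = 0 := by
      by_contra hne
      have h := List.all_eq_true.1 (List.all_eq_true.1 Pentad.s3_check a (List.mem_range.2 a.2)) 0
        (List.mem_range.2 (by norm_num))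
      have k0 : ∀ x ∈ [128, 1024], cls (app (wM (s3W.getD 0 [])) x) = cls x := by decide +kernel
      simp only [Bool.or_eq_true, beq_iff_eq, bne_iff_ne, ne_eq, key 128 (by norm_num), key 1024 (by norm_num),
        k0 128 (by simp), k0 1024 (by simp), not_true_eq_false, or_false] at h
      exact hne h
    obtain rfl : a = 0 := Fin.ext ha
    simp only [Fin.val_zero] at he hw hwN
    have e0 : wS (s3W.getD 0 []) = 1 := rfl
    rw [e0, mul_one] at he
    have : aperm Fr v = 1 := by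
      rw [← hw, show (⟨K.el (wS (s3W.getD 0 [])), hwN⟩ : ↥Fr.NZ) = 1 from Subtype.ext (by
        show K.el (wS (s3W.getD 0 [])) = 1
        rw [e0, K.el_one]), map_one]
    exact ⟨v, v.2, (aperm_eq_one K v.2).1 this, k, k.2, he⟩
  · rintro ⟨v, hv, hc, k, hk, he⟩
    refine ⟨he ▸ mul_mem (Av_CZ hv) (K.el_ks_CZ hk), ?_⟩
    have hN : Fr.Av v * K.el (ks k) ∈ Fr.NZ := he ▸ n.2
    rw [show n = ⟨_, hN⟩ from Subtype.ext he, hform hv hk, aperm_eq_one K hv]
    exact hc

/-- The map to the product. -/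
noncomputable def Phi (Fr : Frame S) : ↥Fr.NZ →* Equiv.Perm Fr.Pts × Matrix.SpecialLinearGroup (Fin 3) (ZMod 2) :=
  (perm5 Fr).prod Fr.θ

theorem Kap.Phi_ker : (Phi Fr).ker = K.L.subgroupOf Fr.NZ := by
  ext n
  rw [MonoidHom.mem_ker, Subgroup.mem_subgroupOf, ← K.perm5_eq_one, ← Fr.θ_eq_one, Phi, MonoidHom.prod_apply,
    Prod.ext_iff]
  exact and_comm

include K in
theorem Kap.Phi_surjective : Function.Surjective (Phi Fr) := by
  classical
  haveI : Fintype Fr.Pts := Fintype.ofFinite _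
  rw [← MonoidHom.range_eq_top]
  refine Subgroup.eq_top_of_card_eq _ ?_
  rw [← Subgroup.index_ker, K.Phi_ker]
  have h := (K.L.subgroupOf Fr.NZ).card_mul_index
  rw [Nat.card_congr (Subgroup.subgroupOfEquivOfLe K.L_le_NZ).toEquiv, K.card_L, K.card_NZ, (card_CA_CZ K).2] at h
  rw [Nat.card_prod, K.card_SL3, Nat.card_perm, (card_others K).2,
    show Nat.factorial 5 = 120 from rfl]
  omega

end Frame

end Cfsg.Agent.Spor.JFour
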