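import Cfsg.Agent.Lib.Spor.JFourType.Pentad.Five
import Cfsg.Agent.Lib.Grp.Frattini

/-!
The group of order 2¹⁵ is special with centre the group of order 8; its normaliser is the normaliser of that group.
-/

set_option autoImplicit false
set_option maxRecDepth 100000
set_option linter.style.haveILetI false

open Cfsg Cfsg.Agent.Spor.Golay
open Cfsg.Agent.Spor.Cos.J4Sub (app mm app_mm app_xor app_zero)

namespace Cfsg.Agent.Spor.JFour

open Mathieu

namespace Pentad

theorem zl_cls {v : ℕ} (hv : v ∈ zl) : cls v = 0 := by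
  revert hv; revert v
  decide

theorem twist_zl {k : ℕ} (hk : k < 64) {v : ℕ} (hv : v < 2048) (hc : cls v = 0) :
    v ^^^ app (k6M.getD k []) v ∈ zl := by
  refine a9_induction (p := fun v => v ^^^ app (k6M.getD k []) v ∈ zl) (by rw [app_zero]; decide)
    (fun a _ b _ ha hb => ?_) (fun u hu => ?_) hv hc
  · have := Frame.zl_xor ha hb
    rw [app_xor]
    convert this using 1
    simp only [Nat.xor_assoc]
    rw [Nat.xor_comm b, Nat.xor_assoc, Nat.xor_comm (app (k6M.getD k []) b) b]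
  · exact List.contains_iff_mem.1 (List.all_eq_true.1 (List.all_eq_true.1 Pentad.centre_check.2.2.1 k
      (List.mem_range.2 hk)) u hu)

end Pentad

namespace Frame

open Pentad

variable {G : Type*} [Group G] {z : G} {P : Subgroup G} {S : Setting z P} {Fr : Frame S} [Finite G] (K : Fr.Kap)

theorem Kap.mul_form {v w : ℕ} (hw : w < 2048) {σ τ : ↥Cfsg.M24} {M : List ℕ} (hM : Fr.Act (K.el σ) M)
    (hv : v < 2048) : Fr.Av v * K.el σ * (Fr.Av w * K.el τ) = Fr.Av (v ^^^ app M w) * K.el (σ * τ) := by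
  rw [K.el_mul, ← Fr.Av_mul hv (hM.lt w), ← hM.eq w hw]
  group

theorem Kap.Zs_le_L : Fr.Zs ≤ K.L := by
  rintro _ ⟨v, hv, rfl⟩
  exact ⟨v, zl_lt' hv, zl_cls hv, 0, by norm_num, by rw [ks_zero, K.el_one, mul_one]⟩

theorem Kap.comm_L {g : G} (hg : g ∈ K.L) {h : G} (hh : h ∈ Fr.Zs) : g * h = h * g :=
  ((Subgroup.mem_centralizer_iff.1 (Subgroup.mem_inf.1 (K.L_le_CA hg)).1) h hh).symm

/-- The centre. -/
theorem Kap.L_center {g : G} (hg : g ∈ K.L) (h : ∀ l ∈ K.L, l * g = g * l) : g ∈ Fr.Zs := by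
  obtain ⟨v, hv, hc, k, hk, rfl⟩ := hg
  have hA := K.act_ks hk
  have hk0 : k = 0 := by
    by_contra hne
    have h' := List.all_eq_true.1 Pentad.centre_check.1 k (List.mem_range.2 hk)
    simp only [Bool.or_eq_true, beq_iff_eq, hne, false_or, List.any_eq_true, bne_iff_ne, ne_eq] at h'
    obtain ⟨w, hw, hwne⟩ := h'
    obtain ⟨hw1, hw2⟩ := a9B_spec hw
    have hmem : Fr.Av w ∈ K.L := ⟨w, hw1, hw2, 0, by norm_num, by rw [ks_zero, K.el_one, mul_one]⟩
    have e := h _ hmem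
    rw [← mul_assoc, Fr.Av_mul hw1 hv,
      show Fr.Av v * K.el (ks k) * Fr.Av w = Fr.Av v * (K.el (ks k) * Fr.Av w * (K.el (ks k))⁻¹) * K.el (ks k) by group,
      hA.eq w hw1, Fr.Av_mul hv (hA.lt w)] at e
    obtain ⟨e', -⟩ := K.form_inj (Nat.xor_lt_two_pow (n := 11) hw1 hv) (Nat.xor_lt_two_pow (n := 11) hv (hA.lt w)) e
    rw [Nat.xor_comm] at e'
    exact hwne (Nat.xor_right_injective e').symm
  subst hk0
  rw [ks_zero, K.el_one, mul_one]
  refine ⟨v, ?_, rfl⟩
  have h' := List.all_eq_true.1 Pentad.centre_check.2.1 v (List.mem_range.2 hv)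
  simp only [Bool.or_eq_true, bne_iff_ne, ne_eq, hc, not_true_eq_false, false_or, List.contains_iff_mem,
    List.any_eq_true, List.mem_range] at h'
  refine h'.resolve_right ?_
  rintro ⟨i, hi, hne⟩
  have hpow : 2 ^ i < 64 := Nat.pow_lt_pow_right (by norm_num) hi
  have hmem : K.el (ks (2 ^ i)) ∈ K.L := ⟨0, by norm_num, rfl, _, hpow, by rw [Fr.Av_zero, one_mul]⟩
  have e := h _ hmem
  rw [ks_zero, K.el_one, mul_one] at e
  have h2 := (K.act_ks hpow).eq v hv
  rw [e, mul_inv_cancel_right, k6M_two_pow hi] at h2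
  exact hne (Fr.Av_inj hv ((K.act_gen' (show 4 + i < 10 by omega)).lt v) h2).symm

theorem Kap.sq_L {g : G} (hg : g ∈ K.L) : g * g ∈ Fr.Zs := by
  obtain ⟨v, hv, hc, k, hk, rfl⟩ := hg
  rw [K.mul_form hv (K.act_ks hk) hv, ks_mul hk hk, Nat.xor_self, ks_zero, K.el_one, mul_one]
  exact ⟨_, twist_zl hk hv hc, rfl⟩

theorem Kap.commutator_L {g h : G} (hg : g ∈ K.L) (hh : h ∈ K.L) : g * h * g⁻¹ * h⁻¹ ∈ Fr.Zs := by
  obtain ⟨v, hv, hc, k, hk, rfl⟩ := hg
  obtain ⟨w, hw, hd, j, hj, rfl⟩ := hh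
  set g := Fr.Av v * K.el (ks k)
  set h := Fr.Av w * K.el (ks j)
  have hAk := K.act_ks hk
  have hAj := K.act_ks hj
  set a := v ^^^ app (k6M.getD k []) w with ha
  set b := w ^^^ app (k6M.getD j []) v with hb
  have hal : a < 2048 := Nat.xor_lt_two_pow (n := 11) hv (hAk.lt w)
  have hbl : b < 2048 := Nat.xor_lt_two_pow (n := 11) hw (hAj.lt v)
  have e1 : g * h = Fr.Av a * K.el (ks (k ^^^ j)) := by rw [K.mul_form hw hAk hv, ks_mul hk hj]
  have e2 : h * g = Fr.Av b * K.el (ks (k ^^^ j)) := by rw [K.mul_form hv hAj hw, ks_mul hj hk, Nat.xor_comm j k]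
  have hab : a ^^^ b ∈ zl := by
    have := zl_xor (twist_zl hj hv hc) (twist_zl hk hw hd)
    convert this using 1
    rw [ha, hb]
    simp only [Nat.xor_assoc]
    congr 1
    rw [← Nat.xor_assoc, Nat.xor_comm (app (k6M.getD k []) w) w, Nat.xor_assoc, Nat.xor_comm (app (k6M.getD j []) v),
      Nat.xor_assoc]
  refine ⟨_, hab, ?_⟩
  rw [show g * h * g⁻¹ * h⁻¹ = g * h * (h * g)⁻¹ by group, e1, e2, mul_inv_rev, ← mul_assoc, mul_inv_cancel_right,
    ← Fr.Av_mul hal hbl]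
  congr 1
  exact (inv_eq_of_mul_eq_one_right (by rw [Fr.Av_mul hbl hbl, Nat.xor_self, Fr.Av_zero])).symm

theorem Kap.center_eq : Subgroup.center ↥K.L = Fr.Zs.subgroupOf K.L := by
  ext g
  rw [Subgroup.mem_center_iff, Subgroup.mem_subgroupOf]
  exact ⟨fun h => K.L_center g.2 fun l hl => congrArg Subtype.val (h ⟨l, hl⟩),
    fun h l => Subtype.ext (K.comm_L l.2 h)⟩

theorem Kap.card_center : Nat.card ↥(Subgroup.center ↥K.L) = 8 := by
  rw [K.center_eq, Nat.card_congr (Subgroup.subgroupOfEquivOfLe K.Zs_le_L).toEquiv, Fr.card_Zs]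

theorem Kap.special : IsSpecial 2 ↥K.L := by
  haveI : Fact (Nat.Prime 2) := ⟨Nat.prime_two⟩
  have hp : IsPGroup 2 ↥K.L := IsPGroup.of_card K.card_L
  have hle : commutator ↥K.L ≤ Subgroup.center ↥K.L := Subgroup.commutator_le.2 fun a _ b _ => by
    rw [K.center_eq, Subgroup.mem_subgroupOf, commutatorElement_def]
    exact K.commutator_L a.2 b.2
  have hge : Subgroup.center ↥K.L ≤ commutator ↥K.L := by
    intro g hg
    rw [K.center_eq, Subgroup.mem_subgroupOf] at hg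
    obtain ⟨u, hu, eu⟩ := hg
    have key : ∀ z ∈ [1, 34, 68], ∀ hz : Fr.Av z ∈ K.L, (⟨_, hz⟩ : ↥K.L) ∈ commutator ↥K.L := by
      intro z hz hzL
      have h' := List.all_eq_true.1 Pentad.centre_check.2.2.2 z hz
      simp only [List.any_eq_true, List.mem_range, beq_iff_eq] at h'
      obtain ⟨k, hk, v, hv, e⟩ := h'
      obtain ⟨hv1, hv2⟩ := a9B_spec hv
      have h1 : Fr.Av v ∈ K.L := ⟨v, hv1, hv2, 0, by norm_num, by rw [ks_zero, K.el_one, mul_one]⟩
      have h2 : K.el (ks k) ∈ K.L := ⟨0, by norm_num, rfl, k, hk, by rw [Fr.Av_zero, one_mul]⟩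
      convert Subgroup.commutator_mem_commutator (Subgroup.mem_top (⟨_, h2⟩ : ↥K.L))
        (Subgroup.mem_top (⟨_, h1⟩ : ↥K.L)) using 1
      swap
      · refine Subtype.ext ?_
        show Fr.Av z = K.el (ks k) * Fr.Av v * (K.el (ks k))⁻¹ * (Fr.Av v)⁻¹
        rw [(K.act_ks hk).eq v hv1, inv_eq_of_mul_eq_one_right (show Fr.Av v * Fr.Av v = 1 by
          rw [Fr.Av_mul hv1 hv1, Nat.xor_self, Fr.Av_zero]), Fr.Av_mul ((K.act_ks hk).lt v) hv1, Nat.xor_comm, e]
      · rfl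
    have mem : ∀ z ∈ zl, Fr.Av z ∈ K.L := fun z hz => K.Zs_le_L ⟨z, hz, rfl⟩
    have add : ∀ x y, x ∈ zl → y ∈ zl → (∀ h : Fr.Av x ∈ K.L, (⟨_, h⟩ : ↥K.L) ∈ commutator ↥K.L) →
        (∀ h : Fr.Av y ∈ K.L, (⟨_, h⟩ : ↥K.L) ∈ commutator ↥K.L) →
        ∀ h : Fr.Av (x ^^^ y) ∈ K.L, (⟨_, h⟩ : ↥K.L) ∈ commutator ↥K.L := by
      intro x y hx hy hx' hy' h
      convert mul_mem (hx' (mem x hx)) (hy' (mem y hy)) using 1
      exact Subtype.ext (Fr.Av_mul (zl_lt' hx) (zl_lt' hy)).symm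
    have k1 := key 1 (by simp)
    have k2 := key 34 (by simp)
    have k3 := key 68 (by simp)
    have all8 : ∀ x ∈ zl, ∀ h : Fr.Av x ∈ K.L, (⟨_, h⟩ : ↥K.L) ∈ commutator ↥K.L := by
      intro x hx
      simp only [zl, List.mem_cons, List.not_mem_nil, or_false] at hx
      rcases hx with rfl | rfl | rfl | rfl | rfl | rfl | rfl | rfl
      · intro h; convert one_mem (commutator ↥K.L) using 1; exact Subtype.ext Fr.Av_zero
      · exact k1
      · exact k2
      · exact add 1 34 (by decide) (by decide) k1 k2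
      · exact k3
      · exact add 1 68 (by decide) (by decide) k1 k3
      · exact add 34 68 (by decide) (by decide) k2 k3
      · exact add 1 102 (by decide) (by decide) k1 (add 34 68 (by decide) (by decide) k2 k3)
    have := all8 u hu (eu ▸ g.2)
    convert this using 1
    exact Subtype.ext eu.symm
  refine ⟨hp, le_antisymm ?_ (hge.trans (Grp.pGroup_commutator_le_frattini hp)), le_antisymm hle hge⟩
  refine Grp.frattini_le_of_elementary Nat.prime_two hle fun x => ?_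
  rw [K.center_eq, Subgroup.mem_subgroupOf, Subgroup.coe_pow, pow_two]
  exact K.sq_L x.2

/-- Its normaliser. -/
theorem Kap.normalizer_L : Subgroup.normalizer (K.L : Set G) = Fr.NZ := by
  haveI : (K.L.subgroupOf Fr.NZ).Normal := K.Phi_ker ▸ MonoidHom.normal_ker _
  refine le_antisymm (fun n hn => ?_) fun n hn => ?_
  · refine Subgroup.mem_normalizer_fintype fun g hg => ?_
    refine K.L_center ((Subgroup.mem_normalizer_iff.1 hn g).1 (K.Zs_le_L hg)) fun l hl => ?_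
    have hl' : n⁻¹ * l * n ∈ K.L := (Subgroup.mem_normalizer_iff''.1 hn l).1 hl
    calc l * (n * g * n⁻¹) = n * ((n⁻¹ * l * n) * g) * n⁻¹ := by group
      _ = n * (g * (n⁻¹ * l * n)) * n⁻¹ := by rw [K.comm_L hl' hg]
      _ = _ := by group
  · exact Subgroup.mem_normalizer_fintype fun g hg =>
      (inferInstance : (K.L.subgroupOf Fr.NZ).Normal).conj_mem ⟨g, K.L_le_NZ hg⟩ hg ⟨n, hn⟩

end Frame

end Cfsg.Agent.Spor.JFour
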