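import Cfsg.Agent.Lib.Spor.JFourType.Pentad.Group

/-!
The group of order 2¹⁵ has no complement in its normaliser.
-/

set_option autoImplicit false
set_option maxRecDepth 100000
set_option linter.style.haveILetI false

open Cfsg Cfsg.Agent.Spor.Golay
open Cfsg.Agent.Spor.Cos.J4Sub (app mm app_mm app_xor app_zero)

namespace Cfsg.Agent.Spor.JFour

open Mathieu

namespace Pentad

theorem testBit_orFold (p : ℕ → Bool) : ∀ (L : List ℕ) (acc k : ℕ), acc.testBit k = true ∨ (k ∈ L ∧ p k = true) →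
    (L.foldl (fun m i => if p i then m ||| 2 ^ i else m) acc).testBit k = true
  | [], _, _, h => by
    rcases h with h | ⟨h, -⟩
    · exact h
    · simp at h
  | i :: L, acc, k, h => by
    rw [List.foldl_cons]
    refine testBit_orFold p L _ k ?_
    rcases h with h | ⟨h, hp⟩
    · refine Or.inl ?_
      split_ifs
      · rw [Nat.testBit_or, h, Bool.true_or]
      · exact h
    · rcases List.mem_cons.1 h with rfl | h
      · refine Or.inl ?_
        rw [if_pos hp, Nat.testBit_or, Nat.testBit_two_pow]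
        simp
      · exact Or.inr ⟨h, hp⟩

theorem maskA_bit {w k : ℕ} (hk : k < 64) (h : app (k6M.getD k []) w = app (gM.getD 0 []) w) :
    (maskA w).testBit k = true :=
  testBit_orFold (fun i => app (k6M.getD i []) w == app (gM.getD 0 []) w) (List.range 64) 0 k
    (Or.inr ⟨List.mem_range.2 hk, by simpa using h⟩)

theorem maskB_bit {w k : ℕ} (hk : k < 64)
    (h : app (k6M.getD k []) w = app (gM.getD 1 []) (app (gM.getD 1 []) w)) : (maskB w).testBit k = true :=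
  testBit_orFold (fun i => app (k6M.getD i []) w == app (gM.getD 1 []) (app (gM.getD 1 []) w)) (List.range 64) 0 k
    (Or.inr ⟨List.mem_range.2 hk, by simpa using h⟩)

theorem gσ_orders : gσ 0 * gσ 0 = 1 ∧ gσ 1 * (gσ 1 * gσ 1) = 1 := by
  have v0 := valid_of_inM24 (gen_in (i := 0) (by norm_num)).1
  have v1 := valid_of_inM24 (gen_in (i := 1) (by norm_num)).1
  constructor
  · refine Subtype.ext ?_
    rw [Subgroup.coe_mul, coe_gσ (by norm_num), ← permOf_comp v0 v0, Pentad.bad_check.2.1, permOf_idP]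
    rfl
  · refine Subtype.ext ?_
    rw [Subgroup.coe_mul, Subgroup.coe_mul, coe_gσ (by norm_num), ← permOf_comp v1 v1,
      ← permOf_comp v1 (valid_comp v1 v1), Pentad.bad_check.2.2, permOf_idP]
    rfl

/-- The element of order seven. -/
noncomputable def σ7 : ↥Cfsg.M24 := gσ 1 * gσ 0

theorem σ7_coe : (σ7 : Equiv.Perm GolayPt) = permOf p7 := by
  rw [σ7, Subgroup.coe_mul, coe_gσ (by norm_num), coe_gσ (by norm_num),
    ← permOf_comp (valid_of_inM24 (gen_in (by norm_num)).1) (valid_of_inM24 (gen_in (by norm_num)).1)]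
  rfl

theorem p7_in : inM24 p7 = true := by decide +kernel

theorem σ7_ks {k : ℕ} (hk : k < 64) (h : σ7 * ks k = ks k * σ7) : k = 0 := by
  by_contra hne
  have h' := List.all_eq_true.1 Pentad.seven_check.2.2.2.1 k (List.mem_range.2 hk)
  simp only [Bool.or_eq_true, beq_iff_eq, hne, false_or, bne_iff_ne, ne_eq] at h'
  refine h' ?_
  have e := congrArg (fun σ : ↥Cfsg.M24 => (σ : Equiv.Perm GolayPt)) h
  simp only [Subgroup.coe_mul, σ7_coe, coe_ks hk] at e
  have v7 := valid_of_inM24 p7_in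
  have vk := valid_of_inM24 (k6_in hk).1
  rw [← permOf_comp v7 vk, ← permOf_comp vk v7] at e
  have p1 : pack 24 (Golay.get (comp p7 (k6P.getD k 0))) = comp p7 (k6P.getD k 0) ∧
      pack 24 (Golay.get (comp (k6P.getD k 0) p7)) = comp (k6P.getD k 0) p7 := by
    have := List.all_eq_true.1 pack_comm_check k (List.mem_range.2 hk)
    simp only [Bool.and_eq_true, beq_iff_eq] at this
    exact this
  rw [← p1.1, ← p1.2]
  refine Census.pack_ext 24 _ _ fun i hi => ?_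
  have a := idx_permOf (valid_comp v7 vk) (pt i)
  have b := idx_permOf (valid_comp vk v7) (pt i)
  rw [idx_pt hi] at a b
  rw [← a, ← b, e]

end Pentad

namespace Frame

open Pentad

variable {G : Type*} [Group G] {z : G} {P : Subgroup G} {S : Setting z P} {Fr : Frame S} [Finite G] (K : Fr.Kap)

theorem Kap.fixes_of_comm {σ : ↥Cfsg.M24} {M : List ℕ} (hM : Fr.Act (K.el σ) M) {w x : ℕ} (hw : w < 2048)
    (hx : x < 2048) (h : Fr.Av w * (Fr.Av x * K.el σ) = Fr.Av x * K.el σ * Fr.Av w) : app M w = w := by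
  rw [← mul_assoc, Fr.Av_mul hw hx,
    show Fr.Av x * K.el σ * Fr.Av w = Fr.Av x * (K.el σ * Fr.Av w * (K.el σ)⁻¹) * K.el σ by group, hM.eq w hw,
    Fr.Av_mul hx (hM.lt w)] at h
  have e := Fr.Av_inj (Nat.xor_lt_two_pow (n := 11) hw hx) (Nat.xor_lt_two_pow (n := 11) hx (hM.lt w))
    (mul_right_cancel h)
  rw [Nat.xor_comm] at e
  exact (Nat.xor_right_injective e).symm

/-- No complement. -/
theorem Kap.no_complement (C : Subgroup G) (hC : C ≤ Fr.NZ) (hinf : C ⊓ K.L = ⊥)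
    (hcov : ∀ n ∈ Fr.NZ, ∃ l ∈ K.L, n * l ∈ C) : False := by
  classical
  -- elements of the complement
  have lift_Av : ∀ u, u < 2048 → cls u ≠ 0 → ∃ w < 2048, cls w = cls u ∧ ∃ j < 64, Fr.Av w * K.el (ks j) ∈ C := by
    intro u hu hc
    obtain ⟨_, ⟨v, hv, hvc, j, hj, rfl⟩, hl⟩ := hcov _ (Av_NZ hu)
    refine ⟨u ^^^ v, Nat.xor_lt_two_pow (n := 11) hu hv, by rw [cls_xor, hvc, Nat.xor_zero], j, hj, ?_⟩
    rwa [← Fr.Av_mul hu hv, mul_assoc]
  have lift_el : ∀ (τ : ↥Cfsg.M24) (M : List ℕ), Fr.Act (K.el τ) M → K.el τ ∈ Fr.NZ →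
      ∃ x < 2048, ∃ ρ < 64, Fr.Av x * K.el (τ * ks ρ) ∈ C := by
    intro τ M hM hτ
    obtain ⟨_, ⟨v, hv, -, ρ, hρ, rfl⟩, hl⟩ := hcov _ hτ
    refine ⟨app M v, hM.lt v, ρ, hρ, ?_⟩
    rw [K.el_mul, ← hM.eq v hv,
      show K.el τ * Fr.Av v * (K.el τ)⁻¹ * (K.el τ * K.el (ks ρ)) = K.el τ * (Fr.Av v * K.el (ks ρ)) by group]
    exact hl
  -- they commute
  have hcommute : ∀ {a b : G} (ha : a ∈ C) (hb : b ∈ C),
      Phi Fr ⟨a, hC ha⟩ * Phi Fr ⟨b, hC hb⟩ = Phi Fr ⟨b, hC hb⟩ * Phi Fr ⟨a, hC ha⟩ → a * b = b * a := by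
    intro a b ha hb h
    have hk : (⟨a, hC ha⟩ * ⟨b, hC hb⟩ * (⟨b, hC hb⟩ * ⟨a, hC ha⟩)⁻¹ : ↥Fr.NZ) ∈ (Phi Fr).ker := by
      rw [MonoidHom.mem_ker, map_mul, map_inv, map_mul, map_mul, h, mul_inv_cancel]
    rw [K.Phi_ker, Subgroup.mem_subgroupOf] at hk
    have hmem : a * b * (b * a)⁻¹ ∈ C ⊓ K.L :=
      Subgroup.mem_inf.2 ⟨mul_mem (mul_mem ha hb) (inv_mem (mul_mem hb ha)), hk⟩
    rw [hinf, Subgroup.mem_bot, mul_inv_eq_one] at hmem
    exact hmem
  have hphi : ∀ {w j x ρ : ℕ} {τ : ↥Cfsg.M24} {M : List ℕ} (hw : w < 2048) (hj : j < 64) (hρ : ρ < 64)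
      (hx : x < 2048) (hM : Fr.Act (K.el τ) M) (hpres : ∀ v < 2048, cls (app M v) = cls v)
      (ha : Fr.Av w * K.el (ks j) ∈ C) (hb : Fr.Av x * K.el (τ * ks ρ) ∈ C),
      Fr.Av w * K.el (ks j) * (Fr.Av x * K.el (τ * ks ρ)) =
        Fr.Av x * K.el (τ * ks ρ) * (Fr.Av w * K.el (ks j)) := by
    intro w j x ρ τ M hw hj hρ hx hM hpres ha hb
    refine hcommute ha hb (Prod.ext ?_ ?_)
    · show perm5 Fr _ * perm5 Fr _ = perm5 Fr _ * perm5 Fr _
      have e1 : perm5 Fr ⟨_, hC ha⟩ = aperm Fr w := by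
        rw [show (⟨_, hC ha⟩ : ↥Fr.NZ) = ⟨Fr.Av w, Av_NZ hw⟩ * ⟨K.el (ks j), K.ks_NZ hj⟩ from rfl, map_mul,
          K.perm5_ks hj, mul_one, aperm_eq hw]
      have hMb : Fr.Act (Fr.Av x * K.el (τ * ks ρ)) (mm M (k6M.getD ρ [])) := by
        have hA2 := Fr.act_mul hM (K.act_ks hρ)
        rw [K.el_mul]
        refine ⟨hA2.lt, fun v hv => ?_⟩
        have hlt := hA2.lt v
        rw [show Fr.Av x * (K.el τ * K.el (ks ρ)) * Fr.Av v * (Fr.Av x * (K.el τ * K.el (ks ρ)))⁻¹ =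
          Fr.Av x * (K.el τ * K.el (ks ρ) * Fr.Av v * (K.el τ * K.el (ks ρ))⁻¹) * (Fr.Av x)⁻¹ by group,
          hA2.eq v hv, Fr.A_comm _ (Fr.Av_mem hx) _ (Fr.Av_mem hlt), mul_inv_cancel_right]
      have h1 := aperm_act (hC hb) hMb hw
      have h2 : aperm Fr (app (mm M (k6M.getD ρ [])) w) = aperm Fr w := by
        have hc : cls (app (mm M (k6M.getD ρ [])) w ^^^ w) = 0 := by
          rw [cls_xor, app_mm, hpres _ ((K.act_ks hρ).lt w), cls_pres_k6 hρ hw, Nat.xor_self]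
        have := (aperm_eq_one K (Nat.xor_lt_two_pow (n := 11) (hMb.lt w) hw)).2 hc
        rw [aperm_mul (hMb.lt w) hw, mul_eq_one_iff_eq_inv] at this
        rw [this, inv_eq_of_mul_eq_one_right (by rw [← aperm_mul hw hw, Nat.xor_self, aperm_zero])]
      rw [h2, mul_inv_eq_iff_eq_mul] at h1
      rw [e1, h1]
    · show Fr.θ _ * Fr.θ _ = Fr.θ _ * Fr.θ _
      rw [Fr.θ_eq_one.2 (show ((⟨_, hC ha⟩ : ↥Fr.NZ) : G) ∈ Fr.CZ from mul_mem (Av_CZ hw) (K.el_ks_CZ hj)),
        one_mul, mul_one]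
  have h7N : K.el σ7 ∈ Fr.NZ := by
    rw [σ7, K.el_mul]; exact mul_mem (K.el_gen_NZ (by norm_num)) (K.el_gen_NZ (by norm_num))
  have h7A : Fr.Act (K.el σ7) m7 := by
    rw [σ7, K.el_mul]; exact Fr.act_mul (K.act_gen' (by norm_num)) (K.act_gen' (by norm_num))
  have h7p : ∀ v < 2048, cls (app m7 v) = cls v := fun v hv => by
    rw [m7, app_mm, cls_pres_gen (by decide) ((K.act_gen' (show 0 < 10 by norm_num)).lt v),
      cls_pres_gen (by decide) hv]
  obtain ⟨x7, hx7, ρ7, hρ7, hC7⟩ := lift_el σ7 m7 h7A h7N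
  obtain ⟨xa, hxa, ρa, hρa, hCa⟩ := lift_el (gσ 0) _ (K.act_gen' (by norm_num)) (K.el_gen_NZ (by norm_num))
  obtain ⟨xb, hxb, ρb, hρb, hCb⟩ := lift_el (gσ 1) _ (K.act_gen' (by norm_num)) (K.el_gen_NZ (by norm_num))
  obtain ⟨-, -, -, -, c128, c1024, -, -⟩ := Pentad.cls_check
  -- each translation in the complement gives a bad vector
  have main : ∀ w < 2048, cls w ≠ 0 → ∀ j < 64, Fr.Av w * K.el (ks j) ∈ C →
      (maskA w).testBit ρa = true ∧ (maskB w).testBit ρb = true := by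
    intro w hw hcw j hj hmem
    have e7 := hphi hw hj hρ7 hx7 h7A h7p hmem hC7
    rw [K.mul_form hx7 (K.act_ks hj) hw] at e7
    have hA7 : Fr.Act (K.el (σ7 * ks ρ7)) (mm m7 (k6M.getD ρ7 [])) := by
      rw [K.el_mul]; exact Fr.act_mul h7A (K.act_ks hρ7)
    rw [K.mul_form hw hA7 hx7] at e7
    obtain ⟨-, hσ⟩ := K.form_inj (Nat.xor_lt_two_pow (n := 11) hw ((K.act_ks hj).lt x7))
      (Nat.xor_lt_two_pow (n := 11) hx7 (hA7.lt w)) e7
    have hj0 : j = 0 := by
      refine σ7_ks hj ?_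
      rw [mul_assoc σ7, ks_mul hρ7 hj, Nat.xor_comm, ← ks_mul hj hρ7, ← mul_assoc, ← mul_assoc] at hσ
      exact (mul_right_cancel hσ).symm
    subst hj0
    rw [ks_zero, K.el_one, mul_one] at hmem
    have fix : ∀ (t : ℕ) (ht : t < 2) (x ρ : ℕ), x < 2048 → ρ < 64 → Fr.Av x * K.el (gσ t * ks ρ) ∈ C →
        app (gM.getD t []) (app (k6M.getD ρ []) w) = w := by
      intro t ht x ρ hx hρ hm
      have e := hphi hw (show 0 < 64 by norm_num) hρ hx (K.act_gen' (show t < 10 by omega))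
        (fun v hv => cls_pres_gen (by interval_cases t <;> decide) hv) (by rwa [ks_zero, K.el_one, mul_one]) hm
      rw [ks_zero, K.el_one, mul_one] at e
      have hA : Fr.Act (K.el (gσ t * ks ρ)) (mm (gM.getD t []) (k6M.getD ρ [])) := by
        rw [K.el_mul]; exact Fr.act_mul (K.act_gen' (show t < 10 by omega)) (K.act_ks hρ)
      have := K.fixes_of_comm hA hw hx e
      rwa [app_mm] at this
    have fa := fix 0 (by norm_num) xa ρa hxa hρa hCa
    have fb := fix 1 (by norm_num) xb ρb hxb hρb hCb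
    obtain ⟨o0, o1⟩ := gσ_orders
    have hA0 := K.act_gen' (show 0 < 10 by norm_num)
    have hA1 := K.act_gen' (show 1 < 10 by norm_num)
    have aa : ∀ u < 2048, app (gM.getD 0 []) (app (gM.getD 0 []) u) = u := fun u hu => by
      have h := (Fr.act_mul hA0 hA0).eq u hu
      rw [← K.el_mul, o0, K.el_one, one_mul, inv_one, mul_one, app_mm] at h
      exact (Fr.Av_inj hu (hA0.lt _) h).symm
    have bbb : ∀ u < 2048, app (gM.getD 1 []) (app (gM.getD 1 []) (app (gM.getD 1 []) u)) = u := fun u hu => by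
      have h := (Fr.act_mul hA1 (Fr.act_mul hA1 hA1)).eq u hu
      rw [← K.el_mul, ← K.el_mul, o1, K.el_one, one_mul, inv_one, mul_one, app_mm, app_mm] at h
      exact (Fr.Av_inj hu (hA1.lt _) h).symm
    refine ⟨maskA_bit hρa ?_, maskB_bit hρb ?_⟩
    · conv_rhs => rw [← fa]
      rw [aa _ ((K.act_ks hρa).lt w)]
    · conv_rhs => rw [← fb]
      rw [bbb _ ((K.act_ks hρb).lt w)]
  obtain ⟨w1, hw1, hc1, j1, hj1, hm1⟩ := lift_Av 128 (by norm_num) (by rw [c128]; norm_num)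
  obtain ⟨w2, hw2, hc2, j2, hj2, hm2⟩ := lift_Av 1024 (by norm_num) (by rw [c1024]; norm_num)
  rw [c128] at hc1
  rw [c1024] at hc2
  obtain ⟨a1, b1⟩ := main w1 hw1 (by rw [hc1]; norm_num) j1 hj1 hm1
  obtain ⟨a2, b2⟩ := main w2 hw2 (by rw [hc2]; norm_num) j2 hj2 hm2
  have inBad : ∀ w < 2048, cls w ≠ 0 → (maskA w).testBit ρa = true → (maskB w).testBit ρb = true →
      (w, maskA w, maskB w) ∈ badT := by
    intro w hw hc ha hb
    have h := List.all_eq_true.1 Pentad.bad_check.1 w (List.mem_range.2 hw)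
    simp only [Bool.or_eq_true, beq_iff_eq, hc, false_or, List.contains_iff_mem] at h
    rcases h with (h | h) | h
    · rw [h] at ha; simp at ha
    · rw [h] at hb; simp at hb
    · exact h
  have hp := List.all_eq_true.1 (List.all_eq_true.1 Pentad.pair_check _ (inBad w1 hw1 (by rw [hc1]; norm_num) a1 b1)) _
    (inBad w2 hw2 (by rw [hc2]; norm_num) a2 b2)
  simp only [Bool.or_eq_true, beq_iff_eq, hc1, hc2] at hp
  rcases hp with (hp | hp) | hp
  · exact absurd hp (by norm_num)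
  · have := congrArg (fun x => Nat.testBit x ρa) hp
    simp [Nat.testBit_and, a1, a2] at this
  · have := congrArg (fun x => Nat.testBit x ρb) hp
    simp [Nat.testBit_and, b1, b2] at this

end Frame

end Cfsg.Agent.Spor.JFour
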