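import Cfsg.Agent.Lib.Spor.JFourType.Pentad.Elems

/-!
The action of the normaliser of the group of order 8 on it: the special linear group in dimension three over the
field with two elements.
-/

set_option autoImplicit false
set_option maxRecDepth 100000
set_option linter.style.haveILetI false

open Cfsg Cfsg.Agent.Spor.Golay
open Cfsg.Agent.Spor.Cos.J4Sub (app mm app_mm app_xor app_zero)
open scoped Matrix

namespace Cfsg.Agent.Spor.JFour

namespace Pentad

/-- A bit as a scalar. -/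
def bz (e : Bool) : ZMod 2 := if e then 1 else 0

theorem bz_xor (a b : Bool) : bz (xor a b) = bz a + bz b := by cases a <;> cases b <;> decide

theorem bz_and (a b : Bool) : bz (a && b) = bz a * bz b := by cases a <;> cases b <;> decide

theorem bz_inj {a b : Bool} (h : bz a = bz b) : a = b := by cases a <;> cases b <;> first | rfl | (simp [bz] at h)

/-- Coordinates of the centre. -/
def zc (c : ℕ) : ℕ := zl.getD c 0

theorem zc_spec : ∀ c < 8, zc c ∈ zl ∧ zc c < 2048 ∧ zc c % 8 = c := by decide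

theorem zc_xor : ∀ a < 8, ∀ b < 8, zc (a ^^^ b) = zc a ^^^ zc b := by decide

theorem SL3_toGL_inj : Function.Injective (Matrix.SpecialLinearGroup.toGL :
    Matrix.SpecialLinearGroup (Fin 3) (ZMod 2) → GL (Fin 3) (ZMod 2)) := fun A B h =>
  Subtype.ext (congrArg (fun g : GL (Fin 3) (ZMod 2) => (g : Matrix (Fin 3) (Fin 3) (ZMod 2))) h)

theorem card_SL3_le : Nat.card (Matrix.SpecialLinearGroup (Fin 3) (ZMod 2)) ≤ 168 := by
  refine le_trans (Nat.card_le_card_of_injective _ SL3_toGL_inj) ?_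
  rw [Matrix.card_GL_field, Fin.prod_univ_three, ZMod.card]
  norm_num

/-- The entry of the complement. -/
def k2E (i : ℕ) : ℕ × ℕ × ℕ × ℕ := k2T.getD i (0, 0, 0, 0)

end Pentad

namespace Frame

open Pentad

variable {G : Type*} [Group G] {z : G} {P : Subgroup G} {S : Setting z P} (Fr : Frame S) [Finite G]

theorem exists_zact (n : ↥Fr.NZ) (c : ℕ) :
    ∃ d < 8, c < 8 → (n : G) * Fr.Av (zc c) * (n : G)⁻¹ = Fr.Av (zc d) := by
  by_cases hc : c < 8
  · obtain ⟨v, hv, ev⟩ := (Subgroup.mem_normalizer_iff.1 n.2 _).1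
      (show Fr.Av (zc c) ∈ Fr.Zs from ⟨_, (zc_spec c hc).1, rfl⟩)
    exact ⟨v % 8, Nat.mod_lt _ (by norm_num), fun _ => by rw [← ev, zc, (zl_lt hv).2]⟩
  · exact ⟨0, by norm_num, fun h => absurd h hc⟩

/-- The action in coordinates. -/
noncomputable def zact (n : ↥Fr.NZ) (c : ℕ) : ℕ := (Fr.exists_zact n c).choose

theorem zact_lt (n : ↥Fr.NZ) (c : ℕ) : Fr.zact n c < 8 := (Fr.exists_zact n c).choose_spec.1

theorem zact_eq (n : ↥Fr.NZ) {c : ℕ} (hc : c < 8) :
    (n : G) * Fr.Av (zc c) * (n : G)⁻¹ = Fr.Av (zc (Fr.zact n c)) := (Fr.exists_zact n c).choose_spec.2 hc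

theorem zc_inj {a b : ℕ} (ha : a < 8) (hb : b < 8) (h : Fr.Av (zc a) = Fr.Av (zc b)) : a = b := by
  rw [← (zc_spec a ha).2.2, ← (zc_spec b hb).2.2, Fr.Av_inj (zc_spec a ha).2.1 (zc_spec b hb).2.1 h]

theorem zact_xor (n : ↥Fr.NZ) {a b : ℕ} (ha : a < 8) (hb : b < 8) :
    Fr.zact n (a ^^^ b) = Fr.zact n a ^^^ Fr.zact n b := by
  have hab := Nat.xor_lt_two_pow (n := 3) ha hb
  have hA := Fr.zact_lt n a
  have hB := Fr.zact_lt n b
  refine Fr.zc_inj (Fr.zact_lt n _) (Nat.xor_lt_two_pow (n := 3) hA hB) ?_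
  rw [← Fr.zact_eq n hab, zc_xor a ha b hb, zc_xor _ hA _ hB, ← Fr.Av_mul (zc_spec a ha).2.1 (zc_spec b hb).2.1,
    ← Fr.Av_mul (zc_spec _ hA).2.1 (zc_spec _ hB).2.1, ← Fr.zact_eq n ha, ← Fr.zact_eq n hb]
  group

theorem zact_zero (n : ↥Fr.NZ) : Fr.zact n 0 = 0 := by
  refine Fr.zc_inj (Fr.zact_lt n 0) (by norm_num) ?_
  rw [← Fr.zact_eq n (by norm_num), show zc 0 = 0 from rfl, Fr.Av_zero, mul_one, mul_inv_cancel]

theorem zact_mul (m n : ↥Fr.NZ) {c : ℕ} (hc : c < 8) : Fr.zact (m * n) c = Fr.zact m (Fr.zact n c) := by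
  refine Fr.zc_inj (Fr.zact_lt _ _) (Fr.zact_lt _ _) ?_
  rw [← Fr.zact_eq _ hc, ← Fr.zact_eq _ (Fr.zact_lt n c), ← Fr.zact_eq n hc, Subgroup.coe_mul]
  group

theorem zact_one {c : ℕ} (hc : c < 8) : Fr.zact 1 c = c := by
  refine Fr.zc_inj (Fr.zact_lt _ _) hc ?_
  rw [← Fr.zact_eq _ hc, OneMemClass.coe_one, one_mul, inv_one, mul_one]

theorem zact_app (n : ↥Fr.NZ) : ∀ c < 8, Fr.zact n c = app [Fr.zact n 1, Fr.zact n 2, Fr.zact n 4] c := by
  intro c hc
  have h3 := Fr.zact_xor n (a := 1) (b := 2) (by norm_num) (by norm_num)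
  have h5 := Fr.zact_xor n (a := 1) (b := 4) (by norm_num) (by norm_num)
  have h6 := Fr.zact_xor n (a := 2) (b := 4) (by norm_num) (by norm_num)
  have h7 := Fr.zact_xor n (a := 1) (b := 6) (by norm_num) (by norm_num)
  rw [show (1 : ℕ) ^^^ 2 = 3 from rfl] at h3
  rw [show (1 : ℕ) ^^^ 4 = 5 from rfl] at h5
  rw [show (2 : ℕ) ^^^ 4 = 6 from rfl] at h6
  rw [show (1 : ℕ) ^^^ 6 = 7 from rfl, h6] at h7
  interval_cases c <;> simp [Cos.J4Sub.app, Fr.zact_zero, show Nat.beq 0 1 = false from rfl, show Nat.beq 1 1 = true from rfl, h3, h5, h6, h7]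

/-- The matrix. -/
noncomputable def θM (n : ↥Fr.NZ) : Matrix (Fin 3) (Fin 3) (ZMod 2) :=
  Matrix.of fun i j => bz ((Fr.zact n (2 ^ (j : ℕ))).testBit (i : ℕ))

theorem θM_mul (m n : ↥Fr.NZ) : Fr.θM (m * n) = Fr.θM m * Fr.θM n := by
  refine Matrix.ext fun i j => ?_
  have hj : 2 ^ (j : ℕ) < 8 := Nat.pow_lt_pow_right (by norm_num) (show (j : ℕ) < 3 from j.2)
  rw [Matrix.mul_apply, Fin.sum_univ_three]
  simp only [θM, Matrix.of_apply, Fin.val_zero, Fin.val_one, Fin.val_two, pow_zero, pow_one]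
  rw [Fr.zact_mul m n hj, Fr.zact_app m _ (Fr.zact_lt n _)]
  have h1 := Fr.zact_lt m 1
  have h2 := Fr.zact_lt m 2
  have h4 := Fr.zact_lt m 4
  generalize Fr.zact m 1 = a at h1 ⊢
  generalize Fr.zact m 2 = b at h2 ⊢
  rw [show (2 : ℕ) ^ 2 = 4 from rfl]
  generalize Fr.zact m 4 = d at h4 ⊢
  have h := List.all_eq_true.1 (List.all_eq_true.1 (List.all_eq_true.1 Pentad.sl_mul (a + 8 * b + 64 * d)
    (List.mem_range.2 (by omega))) _ (List.mem_range.2 (Fr.zact_lt n (2 ^ (j : ℕ))))) i (List.mem_range.2 i.2)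
  rw [show (a + 8 * b + 64 * d) % 8 = a by omega, show (a + 8 * b + 64 * d) / 8 % 8 = b by omega,
    show (a + 8 * b + 64 * d) / 64 = d by omega, beq_iff_eq] at h
  rw [h, bz_xor, bz_xor, bz_and, bz_and, bz_and]

theorem θM_one : Fr.θM 1 = 1 := by
  refine Matrix.ext fun i j => ?_
  have hj : 2 ^ (j : ℕ) < 8 := Nat.pow_lt_pow_right (by norm_num) (show (j : ℕ) < 3 from j.2)
  simp only [θM, Matrix.of_apply, Fr.zact_one hj, Matrix.one_apply]
  clear hj
  revert i j
  decide +kernel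

theorem det_θM (n : ↥Fr.NZ) : (Fr.θM n).det = 1 := by
  have h : (Fr.θM n).det * (Fr.θM n⁻¹).det = 1 := by
    rw [← Matrix.det_mul, ← θM_mul, mul_inv_cancel, θM_one, Matrix.det_one]
  generalize (Fr.θM n).det = d at h ⊢
  generalize (Fr.θM n⁻¹).det = e at h
  revert d e
  decide

/-- The action on the group of order 8. -/
noncomputable def θ : ↥Fr.NZ →* Matrix.SpecialLinearGroup (Fin 3) (ZMod 2) where
  toFun n := ⟨Fr.θM n, Fr.det_θM n⟩
  map_one' := Subtype.ext Fr.θM_one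
  map_mul' m n := Subtype.ext (Fr.θM_mul m n)

theorem θ_eq_iff (m n : ↥Fr.NZ) : Fr.θ m = Fr.θ n ↔ ∀ j < 3, Fr.zact m (2 ^ j) = Fr.zact n (2 ^ j) := by
  refine ⟨fun h j hj => ?_, fun h => Subtype.ext (Matrix.ext fun i j => ?_)⟩
  · have h1 := Fr.zact_lt m (2 ^ j)
    have h2 := Fr.zact_lt n (2 ^ j)
    refine Nat.eq_of_testBit_eq fun i => ?_
    rcases Nat.lt_or_ge i 3 with hi | hi
    · exact bz_inj (congrFun (congrFun (congrArg Subtype.val h) ⟨i, hi⟩) ⟨j, hj⟩)
    · rw [Nat.testBit_lt_two_pow (h1.trans_le (Nat.pow_le_pow_right (n := 2) (by norm_num) hi)),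
        Nat.testBit_lt_two_pow (h2.trans_le (Nat.pow_le_pow_right (n := 2) (by norm_num) hi))]
  · show bz _ = bz _
    rw [h j j.2]

theorem θ_eq_one {n : ↥Fr.NZ} : Fr.θ n = 1 ↔ (n : G) ∈ Fr.CZ := by
  rw [← map_one Fr.θ, θ_eq_iff]
  constructor
  · intro h
    refine Subgroup.mem_centralizer_iff.2 ?_
    rintro _ ⟨v, hv, rfl⟩
    have hv8 : v % 8 < 8 := Nat.mod_lt _ (by norm_num)
    have e : Fr.zact n (v % 8) = v % 8 := by
      rw [Fr.zact_app n _ hv8, show Fr.zact n 1 = 1 from (h 0 (by norm_num)).trans (Fr.zact_one (by norm_num)),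
        show Fr.zact n 2 = 2 from (h 1 (by norm_num)).trans (Fr.zact_one (by norm_num)),
        show Fr.zact n 4 = 4 from (h 2 (by norm_num)).trans (Fr.zact_one (by norm_num))]
      generalize v % 8 = c at hv8 ⊢
      revert c
      decide
    have := Fr.zact_eq n hv8
    rw [e, zc, (zl_lt hv).2] at this
    exact (mul_inv_eq_iff_eq_mul.1 this).symm
  · intro h j hj
    have hj' : 2 ^ j < 8 := Nat.pow_lt_pow_right (by norm_num) (show j < 3 from hj)
    rw [Fr.zact_one hj']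
    refine Fr.zc_inj (Fr.zact_lt _ _) hj' ?_
    rw [← Fr.zact_eq n hj', ← Subgroup.mem_centralizer_iff.1 h _ ⟨_, (zc_spec _ hj').1, rfl⟩, mul_inv_cancel_right]

variable {Fr} (K : Fr.Kap)

/-- The complement inside the Mathieu group. -/
noncomputable def sub168 : Subgroup ↥Cfsg.M24 := Subgroup.closure {gσ 0, gσ 1}

theorem k2_entry {i : ℕ} (hi : i < 168) : inM24 (k2E i).1 = true ∧
    ∃ h : K.el (σof (k2E i).1) ∈ Fr.NZ, σof (k2E i).1 ∈ sub168 ∧
      ∀ j < 3, Fr.zact ⟨_, h⟩ (2 ^ j) = (k2E i).2.2.2 / 8 ^ j % 8 := by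
  induction i using Nat.strong_induction_on with
  | _ i ih =>
    have h := List.all_eq_true.1 Pentad.k2_check.2.2.2 i (List.mem_range.2 hi)
    simp only [Bool.or_eq_true, Bool.and_eq_true, decide_eq_true_eq, beq_iff_eq] at h
    rcases h with rfl | ⟨⟨⟨hp, hg⟩, he⟩, hz⟩
    · have h0 : (k2E 0).1 = idP := Pentad.k2_check.2.1
      rw [h0, σof_idP]
      refine ⟨by decide +kernel, by rw [K.el_one]; exact one_mem _, one_mem _, fun j hj => ?_⟩
      have hj' : 2 ^ j < 8 := Nat.pow_lt_pow_right (by norm_num) (show j < 3 from hj)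
      rw [show (⟨K.el 1, _⟩ : ↥Fr.NZ) = 1 from Subtype.ext K.el_one, Fr.zact_one hj',
        show (k2E 0).2.2.2 = 1 + 8 * 2 + 64 * 4 from Pentad.k2_check.2.2.1]
      interval_cases j <;> rfl
    · change comp _ (k2E (k2E i).2.1).1 = (k2E i).1 at he
      obtain ⟨hpM, hpN, hpS, hpz⟩ := ih (k2E i).2.1 hp (hp.trans hi)
      replace hp : (k2E i).2.1 < i := hp
      have hgi : (k2E i).2.2.1 < 10 := hg.trans (by norm_num)
      have hmul : σof (k2E i).1 = gσ (k2E i).2.2.1 * σof (k2E (k2E i).2.1).1 ∧ inM24 (k2E i).1 = true := by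
        have hin : inM24 (k2E i).1 = true := by
          have := List.all_eq_true.1 Pentad.k2_in i (List.mem_range.2 hi)
          exact this
        refine ⟨Subtype.ext ?_, hin⟩
        rw [Subgroup.coe_mul, σof_coe hin, σof_coe hpM, coe_gσ hgi,
          ← permOf_comp (valid_of_inM24 (gen_in hgi).1) (valid_of_inM24 hpM)]
        exact congrArg permOf he.symm
      refine ⟨hmul.2, ?_, ?_, fun j hj => ?_⟩
      · rw [hmul.1, K.el_mul]; exact mul_mem (K.el_gen_NZ hgi) hpN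
      · rw [hmul.1]
        refine mul_mem (Subgroup.subset_closure ?_) hpS
        change (k2E i).2.2.1 < 2 at hg
        generalize (k2E i).2.2.1 = g at hg ⊢
        interval_cases g <;> simp
      have hj' : 2 ^ j < 8 := Nat.pow_lt_pow_right (by norm_num) (show j < 3 from hj)
      refine Fr.zc_inj (Fr.zact_lt _ _) (Nat.mod_lt _ (by norm_num)) ?_
      rw [← Fr.zact_eq _ hj']
      show K.el (σof (k2E i).1) * _ * (K.el (σof (k2E i).1))⁻¹ = _
      rw [hmul.1, K.el_mul]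
      have e2 := Fr.zact_eq ⟨_, hpN⟩ hj'
      rw [hpz j hj] at e2
      calc _ = K.el (gσ (k2E i).2.2.1) * (K.el (σof (k2E (k2E i).2.1).1) * Fr.Av (zc (2 ^ j)) *
            (K.el (σof (k2E (k2E i).2.1).1))⁻¹) * (K.el (gσ (k2E i).2.2.1))⁻¹ := by group
        _ = _ := by
          rw [show K.el (σof (k2E (k2E i).2.1).1) * Fr.Av (zc (2 ^ j)) * (K.el (σof (k2E (k2E i).2.1).1))⁻¹ =
            Fr.Av (zc ((k2E (k2E i).2.1).2.2.2 / 8 ^ j % 8)) from e2,
            (K.act_gen' hgi).eq _ (zc_spec _ (Nat.mod_lt _ (by norm_num))).2.1]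
          refine congrArg Fr.Av ?_
          set M := gM.getD (k2E i).2.2.1 [] with hM
          set w := (k2E (k2E i).2.1).2.2.2 with hw
          have hmem : ∀ c < 8, app M (zc c) ∈ zl := fun c hc => List.contains_iff_mem.1
            (List.all_eq_true.1 (List.all_eq_true.1 Pentad.z_check.1 _ (List.mem_range.2 hgi)) _ (zc_spec c hc).1)
          have hfix : ∀ c < 8, zc (app M (zc c) % 8) = app M (zc c) := fun c hc => (zl_lt (hmem c hc)).2
          have hmod : ∀ c < 8, app M (zc c) % 8 < 8 := fun c _ => Nat.mod_lt _ (by norm_num)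
          change app M (zc (w % 8)) % 8 + 8 * (app M (zc (w / 8 % 8)) % 8) + 64 * (app M (zc (w / 64)) % 8) =
            (k2E i).2.2.2 at hz
          have hw64 : w / 64 < 8 := by
            have := List.all_eq_true.1 Pentad.k2_small _ (List.mem_range.2 (hp.trans hi))
            exact of_decide_eq_true this
          rw [← hz]
          interval_cases j
          · rw [pow_zero, Nat.div_one, show (app M (zc (w % 8)) % 8 + 8 * (app M (zc (w / 8 % 8)) % 8) +
              64 * (app M (zc (w / 64)) % 8)) / 1 % 8 = app M (zc (w % 8)) % 8 by omega, hfix _ (Nat.mod_lt _ (by norm_num))]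
          · rw [pow_one, show (app M (zc (w % 8)) % 8 + 8 * (app M (zc (w / 8 % 8)) % 8) +
              64 * (app M (zc (w / 64)) % 8)) / 8 % 8 = app M (zc (w / 8 % 8)) % 8 by omega,
              hfix _ (Nat.mod_lt _ (by norm_num))]
          · rw [show (8 : ℕ) ^ 2 = 64 from rfl, show (app M (zc (w % 8)) % 8 + 8 * (app M (zc (w / 8 % 8)) % 8) +
              64 * (app M (zc (w / 64)) % 8)) / 64 % 8 = app M (zc (w / 64)) % 8 by omega,
              Nat.mod_eq_of_lt hw64, hfix _ hw64]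

theorem k2_z_inj {i j : ℕ} (hi : i < 168) (hj : j < 168)
    (hk : ∀ k < 3, (k2E i).2.2.2 / 8 ^ k % 8 = (k2E j).2.2.2 / 8 ^ k % 8) : i = j := by
  have hz : (k2E i).2.2.2 = (k2E j).2.2.2 := by
    have h0 := hk 0 (by norm_num); have h1 := hk 1 (by norm_num); have h2 := hk 2 (by norm_num)
    have si : (k2E i).2.2.2 / 64 < 8 := of_decide_eq_true (List.all_eq_true.1 Pentad.k2_small i (List.mem_range.2 hi))
    have sj : (k2E j).2.2.2 / 64 < 8 := of_decide_eq_true (List.all_eq_true.1 Pentad.k2_small j (List.mem_range.2 hj))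
    norm_num at h0 h1 h2
    omega
  have hd := fun a b (ha : a < 168) (hb : b < a) =>
    List.all_eq_true.1 (List.all_eq_true.1 Pentad.k2_closed.2 a (List.mem_range.2 ha)) b (List.mem_range.2 hb)
  rcases lt_trichotomy i j with h | h | h
  · have := hd j i hj h; simp only [bne_iff_ne, ne_eq] at this; exact absurd hz.symm this
  · exact h
  · have := hd i j hi h; simp only [bne_iff_ne, ne_eq] at this; exact absurd hz this

theorem sub168_mem {σ : ↥Cfsg.M24} (hσ : σ ∈ sub168) : ∃ i < 168, σ = σof (k2E i).1 := by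
  have hstep : ∀ g < 2, ∀ i < 168, ∃ j < 168, gσ g * σof (k2E i).1 = σof (k2E j).1 := by
    intro g hg i hi
    have h := List.all_eq_true.1 (List.all_eq_true.1 Pentad.k2_closed.1 i (List.mem_range.2 hi)) g (List.mem_range.2 hg)
    obtain ⟨e, he, e'⟩ := List.mem_map.1 (List.contains_iff_mem.1 h)
    obtain ⟨j, hj, rfl⟩ := List.mem_iff_getElem.1 he
    have hlen : k2T.length = 168 := by simpa using Pentad.k2_check.1
    have hj' : j < 168 := hlen ▸ hj
    refine ⟨j, hj', Subtype.ext ?_⟩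
    rw [Subgroup.coe_mul, coe_gσ (hg.trans (by norm_num)), σof_coe (Q := (k2E i).1) (List.all_eq_true.1 Pentad.k2_in i (List.mem_range.2 hi)),
      σof_coe (Q := (k2E j).1) (List.all_eq_true.1 Pentad.k2_in j (List.mem_range.2 hj')),
      ← permOf_comp (valid_of_inM24 (gen_in (hg.trans (by norm_num))).1)
        (valid_of_inM24 (Q := (k2E i).1) (List.all_eq_true.1 Pentad.k2_in i (List.mem_range.2 hi)))]
    refine congrArg permOf ?_
    rw [show k2E j = k2T[j] from List.getD_eq_getElem _ _ hj]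
    exact e'.symm
  have hmul : ∀ i < 168, ∃ j < 168, σ * σof (k2E i).1 = σof (k2E j).1 := by
    rw [sub168, ← Subgroup.mem_toSubmonoid, Subgroup.closure_toSubmonoid_of_finite] at hσ
    induction hσ using Submonoid.closure_induction with
    | mem x hx =>
      rcases hx with rfl | rfl
      · exact hstep 0 (by norm_num)
      · exact hstep 1 (by norm_num)
    | one => exact fun i hi => ⟨i, hi, one_mul _⟩
    | mul x y _ _ hx hy =>
      intro i hi
      obtain ⟨j, hj, e⟩ := hy i hi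
      obtain ⟨k, hk, e'⟩ := hx j hj
      exact ⟨k, hk, by rw [mul_assoc, e, e']⟩
  obtain ⟨j, hj, e⟩ := hmul 0 (by norm_num)
  rw [show (k2E 0).1 = idP from Pentad.k2_check.2.1, σof_idP, mul_one] at e
  exact ⟨j, hj, e⟩

theorem Kap.sub168_NZ {σ : ↥Cfsg.M24} (hσ : σ ∈ sub168) : K.el σ ∈ Fr.NZ := by
  obtain ⟨i, hi, rfl⟩ := sub168_mem hσ
  exact (k2_entry K hi).2.choose

/-- The complement in the normaliser. -/
noncomputable def Kap.emb : ↥sub168 →* ↥Fr.NZ where
  toFun σ := ⟨K.el σ, K.sub168_NZ σ.2⟩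
  map_one' := Subtype.ext K.el_one
  map_mul' σ τ := Subtype.ext (K.el_mul σ τ)

include K in
theorem k2_inj {i j : ℕ} (hi : i < 168) (hj : j < 168) (h : σof (k2E i).1 = σof (k2E j).1) : i = j := by
  obtain ⟨-, hiN, -, hiz⟩ := k2_entry K hi
  obtain ⟨-, hjN, -, hjz⟩ := k2_entry K hj
  have hk : ∀ k < 3, (k2E i).2.2.2 / 8 ^ k % 8 = (k2E j).2.2.2 / 8 ^ k % 8 := fun k hk => by
    rw [← hiz k hk, ← hjz k hk]
    congr 1
    exact Subtype.ext (congrArg K.el h)
  exact k2_z_inj hi hj hk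

include K in
theorem Kap.card_sub168 : 168 ≤ Nat.card ↥sub168 := by
  let f : Fin 168 → ↥sub168 := fun i => ⟨σof (k2E i).1, (k2_entry K i.2).2.choose_spec.1⟩
  have hf : Function.Injective f := fun i j e => Fin.ext (k2_inj K i.2 j.2 (congrArg Subtype.val e))
  simpa using Nat.card_le_card_of_injective f hf

theorem Kap.θ_emb_bijective : Function.Bijective (Fr.θ.comp K.emb) := by
  have hinj : Function.Injective (Fr.θ.comp K.emb) := by
    intro σ τ e
    obtain ⟨i, hi, ei⟩ := sub168_mem σ.2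
    obtain ⟨j, hj, ej⟩ := sub168_mem τ.2
    refine Subtype.ext ?_
    rw [ei, ej]
    obtain ⟨-, hiN, -, hiz⟩ := k2_entry K hi
    obtain ⟨-, hjN, -, hjz⟩ := k2_entry K hj
    rw [MonoidHom.comp_apply, MonoidHom.comp_apply, θ_eq_iff] at e
    rw [k2_z_inj hi hj fun k hk => ?_]
    rw [← hiz k hk, ← hjz k hk,
      show (⟨K.el (σof (k2E i).1), hiN⟩ : ↥Fr.NZ) = K.emb σ from Subtype.ext (congrArg K.el ei.symm),
      show (⟨K.el (σof (k2E j).1), hjN⟩ : ↥Fr.NZ) = K.emb τ from Subtype.ext (congrArg K.el ej.symm)]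
    exact e k hk
  exact hinj.bijective_of_nat_card_le (le_trans card_SL3_le K.card_sub168)

include K in
theorem Kap.card_SL3 : Nat.card (Matrix.SpecialLinearGroup (Fin 3) (ZMod 2)) = 168 :=
  le_antisymm card_SL3_le (by rw [← Nat.card_eq_of_bijective _ K.θ_emb_bijective]; exact K.card_sub168)

/-- The normaliser is the centraliser times the complement. -/
theorem Kap.NZ_eq {n : G} (hn : n ∈ Fr.NZ) : ∃ σ ∈ sub168, n * (K.el σ)⁻¹ ∈ Fr.CZ := by
  obtain ⟨σ, hσ⟩ := K.θ_emb_bijective.2 (Fr.θ ⟨n, hn⟩)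
  refine ⟨σ, σ.2, ?_⟩
  have h : Fr.θ (⟨n, hn⟩ * (K.emb σ)⁻¹) = 1 := by
    rw [map_mul, map_inv, ← hσ, MonoidHom.comp_apply, mul_inv_cancel]
  exact Fr.θ_eq_one.1 h

include K in
theorem Kap.card_NZ : Nat.card ↥Fr.NZ = Nat.card ↥Fr.CZ * 168 := by
  have h := Fr.θ.ker.card_mul_index
  rw [Subgroup.index_ker, MonoidHom.range_eq_top.2 fun x => by
    obtain ⟨σ, hσ⟩ := K.θ_emb_bijective.2 x
    exact ⟨K.emb σ, hσ⟩, Subgroup.card_top] at h
  have hk : Fr.θ.ker = Fr.CZ.subgroupOf Fr.NZ := Subgroup.ext fun n => by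
    rw [MonoidHom.mem_ker, Fr.θ_eq_one, Subgroup.mem_subgroupOf]
  rw [hk, Nat.card_congr (Subgroup.subgroupOfEquivOfLe CZ_le_NZ).toEquiv,
    K.card_SL3] at h
  exact h.symm

end Frame

end Cfsg.Agent.Spor.JFour
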